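import Groth.Agent.AlgGrp.K5.RedQuot
import Groth.Agent.Par.K546.Opp
import Groth.Agent.Sga3A.NormParab
import Groth.Agent.S3977
import Mathlib.LinearAlgebra.SymmetricAlgebra.Basis

/-!
# The open cell of a projective homogeneous variety
-/

set_option autoImplicit false
universe u
open CategoryTheory CategoryTheory.Limits MonoidalCategory CartesianMonoidalCategory MonObj GrpObj AlgebraicGeometry
open TopologicalSpace

namespace K5.Cell

open K492.Act K5.Stab K5.Orb K5.RedQuot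

/-- The coordinate ring of the image of an open immersion of a spectrum. -/
theorem cell_of_spec {k : Type u} [Field k] {X : Scheme.{u}} (f : X ⟶ Spec (CommRingCat.of k)) {R : Type u} [CommRing R]
    [Algebra k R] (j : Spec (CommRingCat.of R) ⟶ X) [IsOpenImmersion j]
    (hj : j ≫ f = Spec.map (CommRingCat.ofHom (algebraMap k R))) :
    IsAffineOpen j.opensRange ∧ ∃ φ : Γ(X, j.opensRange) ≃+* R, ∀ c : k,
      φ ((f.appLE ⊤ j.opensRange le_top) ((Scheme.ΓSpecIso (CommRingCat.of k)).inv c)) = algebraMap k R c := by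
  refine ⟨isAffineOpen_opensRange j, ?_⟩
  have hle : (⊤ : (Spec (CommRingCat.of R)).Opens) ≤ j ⁻¹ᵁ j.opensRange := fun x _ => ⟨x, rfl⟩
  have h1 : IsIso (j.appLE j.opensRange ⊤ hle) := by
    have h2 : IsIso (j.app j.opensRange) := Scheme.Hom.isIso_app j _ le_rfl
    rw [Scheme.Hom.appLE]
    have h3 : IsIso (homOfLE hle) := ⟨⟨homOfLE le_top, Subsingleton.elim _ _, Subsingleton.elim _ _⟩⟩
    infer_instance
  let φ := (asIso (j.appLE j.opensRange ⊤ hle) ≪≫ Scheme.ΓSpecIso (CommRingCat.of R)).commRingCatIsoToRingEquiv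
  refine ⟨φ, fun c => ?_⟩
  change (Scheme.ΓSpecIso (CommRingCat.of R)).hom ((j.appLE j.opensRange ⊤ hle)
    ((f.appLE ⊤ j.opensRange le_top) ((Scheme.ΓSpecIso (CommRingCat.of k)).inv c))) = algebraMap k R c
  have h2 : f.appLE ⊤ j.opensRange le_top ≫ j.appLE j.opensRange ⊤ hle =
      (Spec.map (CommRingCat.ofHom (algebraMap k R))).appTop := by
    rw [Scheme.Hom.appLE_comp_appLE]
    have h5 : ∀ (g : Spec (CommRingCat.of R) ⟶ Spec (CommRingCat.of k)) (e : (⊤ : (Spec (CommRingCat.of R)).Opens) ≤ g ⁻¹ᵁ ⊤),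
        g.appLE ⊤ ⊤ e = g.appTop := fun g e => Scheme.Hom.appLE_eq_app g
    rw [h5, hj]
  have h3 := Scheme.ΓSpecIso_inv_naturality (CommRingCat.ofHom (algebraMap k R))
  have h4 : (Scheme.ΓSpecIso (CommRingCat.of k)).inv ≫ (f.appLE ⊤ j.opensRange le_top ≫ j.appLE j.opensRange ⊤ hle) ≫
      (Scheme.ΓSpecIso (CommRingCat.of R)).hom = CommRingCat.ofHom (algebraMap k R) := by
    rw [h2, ← Category.assoc, ← h3, Category.assoc, Iso.inv_hom_id, Category.comp_id]
  exact congrArg (fun z => z.hom c) h4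

variable {k : Type u} [Field k] [IsAlgClosed k] [CharZero k] {G Y : Over (Spec (CommRingCat.of k))} [GrpObj G]

/-- A proper homogeneous space under a reductive group has an open cell. -/
theorem exists_cell [IsAffine G.left] [Smooth G.hom] [ConnectedSpace G.left] (hG : Red.IsReductive G)
    [IsProper Y.hom] [IsReduced Y.left] (a : AlgGrp.Action G Y)
    (htrans : ∀ y y' : 𝟙_ (Over (Spec (CommRingCat.of k))) ⟶ Y,
      ∃ g : 𝟙_ (Over (Spec (CommRingCat.of k))) ⟶ G, lift g y ≫ a.act = y')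
    (o : 𝟙_ (Over (Spec (CommRingCat.of k))) ⟶ Y) :
    ∃ (V : Y.left.Opens) (_ : IsAffineOpen V) (σ : Type u) (φ : Γ(Y.left, V) ≃+* MvPolynomial σ k),
      pt o ∈ V ∧ ∀ c : k, φ ((Y.hom.appLE ⊤ V le_top) ((Scheme.ΓSpecIso (CommRingCat.of k)).inv c)) =
        MvPolynomial.C c := by
  obtain ⟨P, gP, i, hPo, hsq⟩ := exists_parabolic_stab a htrans o
  have hp : Red.IsParabolic i := Groth.Agent.Sga3A.NormParab.isParabolic_of_over hPo
  obtain ⟨L, P', U, U', gL, gP', gU, gU', l, p', l', u, u', hl, hl', hp', hpb, hL, hL', hU, hU'⟩ :=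
    K546.Opp.exists_opposite hG hp
  have hcell : IsOpenImmersion (((u' ≫ p') ⊗ₘ i) ≫ μ[G]).left :=
    Groth.Agent.Sga3B.Parab.OppMain151.forward K546.Opp.pcL
      (Groth.Agent.Sga3B.Parab.OppFin151.parConn_of Groth.Agent.Sga3B.Parab.Uncond688.dynK2) hG hp' hp hU' hpb.flip hL'
  obtain ⟨hf1, hf2⟩ := flat_orbit a htrans o
  have hι : IsOpenImmersion ((u' ≫ p') ≫ a.orbitMap o).left := isOpenImmersion_cell hsq hf1 hf2 _ hcell
  obtain ⟨E, _, _, hEf, -, ⟨e⟩⟩ := Groth.Agent.S3977.result hG p' hp' u' hU'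
  let j : Spec (CommRingCat.of (SymmetricAlgebra k E)) ⟶ Y.left := (e.inv ≫ (u' ≫ p') ≫ a.orbitMap o).left
  have hj : IsOpenImmersion j := by
    change IsOpenImmersion (e.inv.left ≫ ((u' ≫ p') ≫ a.orbitMap o).left)
    infer_instance
  have hjw : j ≫ Y.hom = Spec.map (CommRingCat.ofHom (algebraMap k (SymmetricAlgebra k E))) :=
    Over.w (e.inv ≫ (u' ≫ p') ≫ a.orbitMap o)
  obtain ⟨hV, φ, hφ⟩ := cell_of_spec Y.hom j hjw
  let b := Module.Free.chooseBasis k E
  let ψ := SymmetricAlgebra.equivMvPolynomial b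
  refine ⟨j.opensRange, hV, _, φ.trans ψ.toRingEquiv, ?_, fun c => ?_⟩
  · have hum : IsMonHom u' := hU'.1
    have hpm : IsMonHom p' := hp'.1
    have h1 : (1 : 𝟙_ (Over (Spec (CommRingCat.of k))) ⟶ U') ≫ (u' ≫ p') ≫ a.orbitMap o = o := by
      rw [← Category.assoc]
      have h2 : (1 : 𝟙_ (Over (Spec (CommRingCat.of k))) ⟶ U') ≫ u' ≫ p' =
          (1 : 𝟙_ (Over (Spec (CommRingCat.of k))) ⟶ G) := by
        rw [← Category.assoc, MonObj.one_comp, MonObj.one_comp]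
      rw [h2, one_comp_orbitMap]
      rw [toUnit_unique (toUnit (𝟙_ (Over (Spec (CommRingCat.of k))))) (𝟙 _), Category.id_comp]
    have h3 : (((1 : 𝟙_ (Over (Spec (CommRingCat.of k))) ⟶ U') ≫ e.hom) ≫ (e.inv ≫ (u' ≫ p') ≫ a.orbitMap o)) = o := by
      rw [Category.assoc, Iso.hom_inv_id_assoc, h1]
    refine ⟨pt ((1 : 𝟙_ (Over (Spec (CommRingCat.of k))) ⟶ U') ≫ e.hom), ?_⟩
    exact (pt_comp _ (e.inv ≫ (u' ≫ p') ≫ a.orbitMap o)).symm.trans (congrArg pt h3)
  · change ψ (φ _) = _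
    rw [hφ]
    exact ψ.commutes c

end K5.Cell
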