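import Groth.Agent.AlgGrp.K5.SecExt
import Groth.Agent.Dix.Cast5
import Groth.Agent.S0233
import Groth.Agent.S1572
import Groth.Agent.S1535
import Groth.Agent.S2821

/-!
# The ample generator of the Picard group of a smooth variety with an open affine cell
-/

set_option autoImplicit false
universe u
open CategoryTheory CategoryTheory.Limits AlgebraicGeometry TopologicalSpace Opposite
open Groth.Agent.Fdesc.LocGen
open Groth.Agent Groth.Agent.Grpsch.PicGrp

namespace K5.CellSec

variable {X : Scheme.{u}}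

theorem isInvertible_of_iso {M N : X.Modules} (e : M ≅ N) (hM : PicF.IsInvertible M) : PicF.IsInvertible N := by
  rw [isInvertible_iff] at hM ⊢
  intro x
  obtain ⟨U, g, hx, hg⟩ := hM x
  exact ⟨U, e.hom.app U g, hx, hg.app e.hom⟩

/-- An invertible module has a generator on an affine open with a factorial coordinate ring. -/
theorem exists_isGen_of_ufd {L : X.Modules} (hL : PicF.IsInvertible L) (V : X.Opens) (hV : IsAffineOpen V)
    [IsDomain Γ(X, V)] [UniqueFactorizationMonoid Γ(X, V)] : ∃ e : Γ(L, V), IsGen e := by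
  let T : (Spec Γ(X, V)).Opens := ⊤
  let j : (T : Scheme.{u}) ⟶ X := T.ι ≫ hV.fromSpec
  have hj : IsOpenImmersion j := inferInstance
  have h1 : PicF.IsInvertible (L.restrict j) := by
    have h2 := isInvertible_pullback j hL
    exact isInvertible_of_iso ((Scheme.Modules.restrictFunctorIsoPullback j).app L).symm h2
  obtain ⟨e⟩ := Groth.Agent.S0233.result Γ(X, V) T (L.restrict j) h1
  have h3 : IsGen (sec e.inv ⊤) := (isIso_iff_isGen e.inv).mp inferInstance
  obtain ⟨m, hm⟩ := (toRestrict (M := L) j (U := ⊤)).surjective (sec e.inv ⊤)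
  rw [← hm, isGen_toRestrict_iff] at h3
  have h4 : V ≤ j ''ᵁ ⊤ := by
    rw [Scheme.Hom.image_top_eq_opensRange, Scheme.Hom.opensRange_comp, Scheme.Opens.opensRange_ι,
      Scheme.Hom.image_top_eq_opensRange, hV.opensRange_fromSpec]
  exact ⟨res L h4 m, h3.res h4⟩

/-- The ample generator of the Picard group has a section whose nonvanishing locus is a given open affine cell. -/
theorem exists_cell_section {k : Type u} [Field k] [IsAlgClosed k] (f : X ⟶ Spec (CommRingCat.of k)) [IsProper f]
    [Smooth f] [IsIntegral X] {L : X.Modules} (hL : CohB1.IsAmple L) (hdim : 0 < topologicalKrullDim X)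
    (hgen : ∀ M : X.Modules, PicF.IsInvertible M → ∃ n : ℕ,
      Nonempty (M ≅ CohB1.tensorPow L n) ∨
        Nonempty (CohB1.tensorMod M (CohB1.tensorPow L n) ≅ Coh.structureModule X))
    (V : X.Opens) (hV : IsAffineOpen V) (hne : (V : Set X).Nonempty) {σ : Type u}
    (φ : Γ(X, V) ≃+* MvPolynomial σ k)
    (hφ : ∀ c : k, φ ((f.appLE ⊤ V le_top) ((Scheme.ΓSpecIso (CommRingCat.of k)).inv c)) = MvPolynomial.C c) :
    ∃ s : Coh.structureModule X ⟶ L, CohB1.genLocus L s = V := by
  have hN : IsLocallyNoetherian X := LocallyOfFiniteType.isLocallyNoetherian f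
  have hcX : CompactSpace X := hL.2.1
  have hNX : IsNoetherian X := {}
  have hsep : X.IsSeparated := K5.PicTrans.isSeparated_of f
  let _ : X.Over (Spec (CommRingCat.of k)) := ⟨f⟩
  have hufd : ∀ x : X, IsDomain (X.presheaf.stalk x) ∧ UniqueFactorizationMonoid (X.presheaf.stalk x) := fun x => by
    have : Smooth (X ↘ Spec (CommRingCat.of k)) := inferInstanceAs (Smooth f)
    have := S1535.result k X x
    exact S2821.result _
  have hnorm : ∀ x : X, IsIntegrallyClosed (X.presheaf.stalk x) := fun x => by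
    obtain ⟨h1, h2⟩ := hufd x
    infer_instance
  obtain ⟨D, hD, hsupp⟩ := S1572.result X V hV (V.isOpen.dense hne) (fun x _ => hufd x)
  have hD' : BlowUp.IsEffCartierIdeal D.subschemeι.ker := by
    rw [Scheme.IdealSheafData.ker_subschemeι]
    exact hD
  obtain ⟨s, hs⟩ := Groth.Agent.Dix.Cast5.exists_section D.subschemeι hD'
  have hM := isInvertible_dual (Groth.Agent.Dix.IdealModCartier.isInvertible_idealMod hD')
  have hsV : CohB1.genLocus _ s = V := by
    apply Opens.ext
    rw [hs, Scheme.IdealSheafData.range_subschemeι, hsupp, compl_compl]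
  obtain ⟨x, hx⟩ := hne
  obtain ⟨n, t, ht⟩ := K5.SecExt.exists_pow_section f hL hdim hgen hM s (by rw [hsV]; exact hV)
    (x := x) (by rw [hsV]; exact hx)
  rw [hsV] at ht
  have hdom : IsDomain Γ(X, V) := by
    have : Nonempty V := ⟨⟨x, hx⟩⟩
    infer_instance
  have hu : UniqueFactorizationMonoid Γ(X, V) := φ.symm.toMulEquiv.uniqueFactorizationMonoid inferInstance
  obtain ⟨e, he⟩ := exists_isGen_of_ufd hL.1 V hV
  refine K5.SecExt.exists_section f hnorm hL.1 n t V ⟨x, hx⟩ ht ?_ he
  intro u hu
  obtain ⟨c, -, hc⟩ := MvPolynomial.isUnit_iff_eq_C_of_isReduced.mp (hu.map φ)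
  exact ⟨c, φ.injective (by rw [hφ, hc])⟩

end K5.CellSec
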