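import Groth.Agent.AlgGrp.K5.HomCrit
import Mathlib.RingTheory.QuasiFinite.Basic

/-!
# Finiteness of the classes of closed points which are not separated by sections
-/

set_option autoImplicit false
universe u
open CategoryTheory CategoryTheory.Limits AlgebraicGeometry TopologicalSpace Opposite
open Groth.Agent.Fdesc.LocGen
open Groth.Agent Groth.Agent.Ega2
open Groth.Agent.VarietyB Groth.Agent.VarietyB.ProjHom Groth.Agent.VarietyB.ProjGlue

namespace K5.VACrit

variable {X : Scheme.{u}} {k : Type u} [Field k] (f : X ⟶ Spec (CommRingCat.of k)) {L : X.Modules}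

/-- The algebra structure over `k` on sections. -/
noncomputable abbrev algSec (W : X.Opens) : Algebra k Γ(X, W) := (CoordData.baseHom f W).toAlgebra

theorem finiteType_sec [LocallyOfFiniteType f] {W : X.Opens} (hW : IsAffineOpen W) :
    letI := algSec f W; Algebra.FiniteType k Γ(X, W) := by
  let _ : Algebra k Γ(X, W) := (CoordData.baseHom f W).toAlgebra
  have h1 : (f.appLE ⊤ W le_top).hom.FiniteType :=
    LocallyOfFiniteType.finiteType_appLE f (isAffineOpen_top _) hW le_top
  have h2 : (CoordData.baseHom f W).FiniteType := by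
    have h3 : CoordData.baseHom f W = (f.appLE ⊤ W le_top).hom.comp
        (Scheme.ΓSpecIso (CommRingCat.of k)).inv.hom := by
      rw [CoordData.baseHom, ← RingHom.comp_assoc]
      rfl
    rw [h3]
    refine h1.comp (RingHom.FiniteType.of_surjective _ ?_)
    exact (Scheme.ΓSpecIso (CommRingCat.of k)).symm.commRingCatIsoToRingEquiv.surjective
  exact h2

theorem range_algSec (W : X.Opens) : letI := algSec f W
    Set.range (algebraMap k Γ(X, W)) = Set.range (fun r : Γ(Spec (CommRingCat.of k), ⊤) =>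
      ores (le_top : W ≤ f ⁻¹ᵁ ⊤) (f.app ⊤ r)) := by
  let _ : Algebra k Γ(X, W) := (CoordData.baseHom f W).toAlgebra
  ext a
  constructor
  · rintro ⟨c, rfl⟩
    exact ⟨(Scheme.ΓSpecIso (CommRingCat.of k)).inv c, rfl⟩
  · rintro ⟨r, rfl⟩
    obtain ⟨c, rfl⟩ := (Scheme.ΓSpecIso (CommRingCat.of k)).symm.commRingCatIsoToRingEquiv.surjective r
    exact ⟨c, rfl⟩

theorem exists_prime {W : X.Opens} (hW : IsAffineOpen W) {x : X} (hx : x ∈ W) :
    ∃ P : PrimeSpectrum Γ(X, W), hW.fromSpec P = x := by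
  have : x ∈ Set.range hW.fromSpec := by rw [hW.range_fromSpec]; exact hx
  exact this

theorem isMaximal_of_isClosed {W : X.Opens} (hW : IsAffineOpen W) {P : PrimeSpectrum Γ(X, W)}
    (h : IsClosed ({hW.fromSpec P} : Set X)) : P.asIdeal.IsMaximal := by
  rw [← PrimeSpectrum.isClosed_singleton_iff_isMaximal]
  have h1 := h.preimage hW.fromSpec.continuous
  have h2 : hW.fromSpec ⁻¹' {hW.fromSpec P} = {P} := by
    ext Q
    simp only [Set.mem_preimage, Set.mem_singleton_iff]
    exact hW.fromSpec.isOpenEmbedding.injective.eq_iff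
  rwa [h2] at h1

/-- Not being separated by sections is a symmetric relation on closed points. -/
theorem Rel.symm [IsAlgClosed k] [IsProper f] (hL : CohB1.IsAmple L)
    (hgg : ∀ x : X, ∃ s : Coh.structureModule X ⟶ L, x ∈ CohB1.genLocus L s) {v y : X}
    (hv : IsClosed ({v} : Set X)) (h : Rel L v y) : Rel L y v := by
  intro s hys hvs
  obtain ⟨s₁, hy₁⟩ := hgg y
  have hv₁ : v ∈ CohB1.genLocus L s₁ := by
    by_contra hcon
    exact h s₁ hcon hy₁
  have hW : IsAffineOpen (CohB1.genLocus L s₁) := K899.GenAff.isAffineOpen_genLocus f hL s₁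
  let _ := algSec f (CohB1.genLocus L s₁)
  have hft := finiteType_sec f hW
  obtain ⟨P, hP⟩ := exists_prime hW hv₁
  obtain ⟨Q, hQ⟩ := exists_prime hW hy₁
  have hPm : P.asIdeal.IsMaximal := isMaximal_of_isClosed hW (by rw [hP]; exact hv)
  obtain ⟨a, ha⟩ := (isGen_sec_genLocus s₁).exists_eq (sec s (CohB1.genLocus L s₁))
  obtain ⟨c, hc⟩ := exists_sub_mem (k := k) P.asIdeal a
  let γ : Γ(X, ⊤) := f.app ⊤ ((Scheme.ΓSpecIso (CommRingCat.of k)).inv c)
  let s' := homOf (sec s ⊤ - γ • sec s₁ ⊤)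
  have hs' : sec s' (CohB1.genLocus L s₁) = (a - ores le_top γ) • sec s₁ (CohB1.genLocus L s₁) := by
    rw [sec_sub_smul, ha, sub_smul]
  have hbO' := basicOpen_of_rat hs'
  have hbO := basicOpen_of_rat ha
  have hvs' : v ∉ CohB1.genLocus L s' := by
    intro hmem
    have h1 : v ∈ X.basicOpen (a - ores le_top γ) := by rw [hbO']; exact ⟨hv₁, hmem⟩
    rw [← hP, mem_basicOpen_fromSpec hW] at h1
    exact h1 hc
  have hys' := h s' hvs'
  have h2 : a - ores le_top γ ∈ Q.asIdeal := by
    by_contra hcon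
    rw [← mem_basicOpen_fromSpec hW Q, hbO', hQ] at hcon
    exact hys' hcon.2
  have h3 : a ∈ Q.asIdeal := by
    by_contra hcon
    rw [← mem_basicOpen_fromSpec hW Q, hbO, hQ] at hcon
    exact hys hcon.2
  have h4 : algebraMap k Γ(X, CohB1.genLocus L s₁) c ∈ Q.asIdeal := by
    have := Q.asIdeal.sub_mem h3 h2
    rw [sub_sub_cancel] at this
    exact this
  have h5 : c = 0 := by
    by_contra hne
    exact Q.isPrime.ne_top ((Ideal.eq_top_iff_one _).mpr (by
      have := Q.asIdeal.mul_mem_left (algebraMap k _ c⁻¹) h4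
      rwa [← map_mul, inv_mul_cancel₀ hne, map_one] at this))
  rw [h5, map_zero, sub_zero] at hc
  have h6 : v ∈ X.basicOpen a := by rw [hbO]; exact ⟨hv₁, hvs⟩
  rw [← hP, mem_basicOpen_fromSpec hW] at h6
  exact h6 hc

/-- The closed points not separated from a given one by sections are finite in number. -/
theorem finite_rel [IsAlgClosed k] [IsProper f] (hL : CohB1.IsAmple L)
    (hgg : ∀ x : X, ∃ s : Coh.structureModule X ⟶ L, x ∈ CohB1.genLocus L s) {v : X}
    (hv : IsClosed ({v} : Set X)) : {y : X | IsClosed ({y} : Set X) ∧ Rel L v y}.Finite := by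
  classical
  have hc : CompactSpace X := hL.2.1
  obtain ⟨n, s, hcov, hs0⟩ : ∃ (n : ℕ) (s : Fin (n + 1) → (Coh.structureModule X ⟶ L)),
      ⨆ i, CohB1.genLocus L (s i) = ⊤ ∧ v ∈ CohB1.genLocus L (s 0) := by
    choose t ht using hgg
    obtain ⟨S, hS⟩ := isCompact_univ.elim_finite_subcover (fun x : X => (CohB1.genLocus L (t x) : Set X))
      (fun x => (CohB1.genLocus L (t x)).isOpen) (fun x _ => Set.mem_iUnion.2 ⟨x, ht x⟩)
    let n := Fintype.card S
    let e : Fin n ≃ S := (Fintype.equivFin S).symm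
    refine ⟨n, Fin.cons (t v) fun i => t (e i), ?_, by simpa using ht v⟩
    rw [eq_top_iff]
    intro x _
    obtain ⟨y, hy⟩ := Set.mem_iUnion.1 (hS (Set.mem_univ x))
    obtain ⟨hyS, hxy⟩ := Set.mem_iUnion.1 hy
    rw [TopologicalSpace.Opens.mem_iSup]
    refine ⟨(e.symm ⟨y, hyS⟩).succ, ?_⟩
    simpa using hxy
  have haff : ∀ i, IsAffineOpen (CohB1.genLocus L (s i)) := fun i =>
    K899.GenAff.isAffineOpen_genLocus f hL (s i)
  have hfin := moduleFinite f hL s hcov haff 0
  have hW := haff 0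
  let _ := algSec f (CohB1.genLocus L (s 0))
  have hft := finiteType_sec f hW
  obtain ⟨P, hP⟩ := exists_prime hW hs0
  have hPm : P.asIdeal.IsMaximal := isMaximal_of_isClosed hW (by rw [hP]; exact hv)
  have hA' : ratSub f (s 0) = Subring.closure (ratSet (s 0) ∪
      Set.range (algebraMap k Γ(X, CohB1.genLocus L (s 0)))) := by
    rw [range_algSec]
    rfl
  have hR : ∀ a ∈ ratSet (s 0), ∀ c : k, a - algebraMap k Γ(X, CohB1.genLocus L (s 0)) c ∈ ratSet (s 0) := by
    intro a ha c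
    exact sub_mem_ratSet ha (f.app ⊤ ((Scheme.ΓSpecIso (CommRingCat.of k)).inv c))
  have hint : Algebra.IsIntegral (ratSub f (s 0)) Γ(X, CohB1.genLocus L (s 0)) := inferInstance
  refine ((Algebra.QuasiFinite.finite_comap_preimage_singleton (R := ratSub f (s 0))
    (S := Γ(X, CohB1.genLocus L (s 0))) (PrimeSpectrum.comap (algebraMap _ _) P)).image hW.fromSpec).subset ?_
  rintro y ⟨hy, hrel⟩
  have hsymm := hrel.symm f hL hgg hv
  have hyW : y ∈ CohB1.genLocus L (s 0) := by
    by_contra hcon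
    exact hsymm (s 0) hcon hs0
  obtain ⟨Q, hQ⟩ := exists_prime hW hyW
  have hQm : Q.asIdeal.IsMaximal := isMaximal_of_isClosed hW (by rw [hQ]; exact hy)
  refine ⟨Q, ?_, hQ⟩
  have hle : ∀ b : ratSub f (s 0), b.1 ∈ P.asIdeal → b.1 ∈ Q.asIdeal := by
    intro b hb
    have h1 := K5.TanAlg.mem_span (k := k) (ratSet (s 0)) hR (ratSub f (s 0)) hA' P.asIdeal b.1 b.2 hb
    refine Ideal.span_le.mpr ?_ h1
    rintro c ⟨hcP, s', hs'⟩
    by_contra hcon
    rw [SetLike.mem_coe, ← mem_basicOpen_fromSpec hW Q, basicOpen_of_rat hs', hQ] at hcon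
    refine hrel s' ?_ hcon.2
    intro hvs'
    have h2 : v ∈ X.basicOpen c := by rw [basicOpen_of_rat hs']; exact ⟨hs0, hvs'⟩
    rw [← hP, mem_basicOpen_fromSpec hW] at h2
    exact h2 hcP
  change PrimeSpectrum.comap (algebraMap (ratSub f (s 0)) Γ(X, CohB1.genLocus L (s 0))) Q =
    PrimeSpectrum.comap (algebraMap (ratSub f (s 0)) Γ(X, CohB1.genLocus L (s 0))) P
  apply PrimeSpectrum.ext
  have hmax : (P.asIdeal.comap (algebraMap (ratSub f (s 0)) Γ(X, CohB1.genLocus L (s 0)))).IsMaximal :=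
    Ideal.isMaximal_comap_of_isIntegral_of_isMaximal P.asIdeal
  have hQne : (Q.asIdeal.comap (algebraMap (ratSub f (s 0)) Γ(X, CohB1.genLocus L (s 0)))) ≠ ⊤ :=
    Ideal.comap_ne_top _ hQm.ne_top
  exact (hmax.eq_of_le hQne fun b hb => hle b hb).symm

end K5.VACrit
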