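import Groth.Agent.AlgGrp.K5.VACrit

/-!
# Translation of sections by automorphisms fixing the class of a module
-/

set_option autoImplicit false
universe u
open CategoryTheory CategoryTheory.Limits AlgebraicGeometry TopologicalSpace Opposite
open Groth.Agent.Fdesc.LocGen
open Groth.Agent

namespace K5.VACrit

variable {X : Scheme.{u}} {L : X.Modules}

/-- The translate of a section by an automorphism `t` with `t^* L ≅ L`. -/
noncomputable def tr (t : X ⟶ X) (ψ : (Scheme.Modules.pullback t).obj L ≅ L) (s : Coh.structureModule X ⟶ L) :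
    Coh.structureModule X ⟶ L := pullHom t s ≫ ψ.hom

theorem sec_tr (t : X ⟶ X) (ψ : (Scheme.Modules.pullback t).obj L ≅ L) (s : Coh.structureModule X ⟶ L)
    (U : X.Opens) : sec (tr t ψ s) (t ⁻¹ᵁ U) = ψ.hom.app (t ⁻¹ᵁ U) (pullSec t (sec s U)) := by
  rw [tr, sec_comp, sec_pullHom]

theorem genLocus_tr (t : X ⟶ X) [IsIso t] (ψ : (Scheme.Modules.pullback t).obj L ≅ L)
    (s : Coh.structureModule X ⟶ L) : CohB1.genLocus L (tr t ψ s) = t ⁻¹ᵁ CohB1.genLocus L s := by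
  have key : ∀ U : X.Opens, t ⁻¹ᵁ U ≤ CohB1.genLocus L (tr t ψ s) ↔ U ≤ CohB1.genLocus L s := by
    intro U
    rw [le_genLocus_iff, le_genLocus_iff, sec_tr, isGen_app_iff, isGen_pullSec_openImmersion_iff]
    rw [Scheme.Hom.opensRange_of_isIso]
    exact le_top
  apply le_antisymm
  · have h1 : t ⁻¹ᵁ (inv t ⁻¹ᵁ CohB1.genLocus L (tr t ψ s)) = CohB1.genLocus L (tr t ψ s) := by
      rw [← Scheme.Hom.comp_preimage, IsIso.hom_inv_id, Scheme.Hom.id_preimage]
    have h2 := (key (inv t ⁻¹ᵁ CohB1.genLocus L (tr t ψ s))).mp h1.le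
    rw [← h1]
    exact fun x hx => h2 hx
  · exact (key _).mpr le_rfl

theorem mem_genLocus_tr (t : X ⟶ X) [IsIso t] (ψ : (Scheme.Modules.pullback t).obj L ≅ L)
    (s : Coh.structureModule X ⟶ L) (x : X) : x ∈ CohB1.genLocus L (tr t ψ s) ↔ t x ∈ CohB1.genLocus L s := by
  rw [genLocus_tr]
  rfl

/-- `y` lies in every divisor of a section through `x`. -/
def Rel (L : X.Modules) (x y : X) : Prop :=
  ∀ s : Coh.structureModule X ⟶ L, x ∉ CohB1.genLocus L s → y ∉ CohB1.genLocus L s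

theorem Rel.tr {t : X ⟶ X} [IsIso t] (ψ : (Scheme.Modules.pullback t).obj L ≅ L) {x y : X} (h : Rel L x y) :
    Rel L (t x) (t y) := by
  intro s hs
  rw [← mem_genLocus_tr t ψ] at hs ⊢
  exact h _ hs

theorem tr_mem_ratSet (t : X ⟶ X) (ψ : (Scheme.Modules.pullback t).obj L ≅ L)
    {s : Coh.structureModule X ⟶ L} {a : Γ(X, CohB1.genLocus L s)} (ha : a ∈ ratSet s)
    (h : CohB1.genLocus L (tr t ψ s) ≤ t ⁻¹ᵁ CohB1.genLocus L s) :
    ores h (t.app _ a) ∈ ratSet (tr t ψ s) := by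
  obtain ⟨s', hs'⟩ := ha
  refine ⟨tr t ψ s', ?_⟩
  rw [← res_sec (tr t ψ s') h, ← res_sec (tr t ψ s) h, sec_tr, sec_tr, hs', pullSec_smul, ← res_smul]
  congr 1
  exact Scheme.Modules.Hom.app_smul _ _ _

theorem TanAt.tr (t : X ⟶ X) [IsIso t] (ψ : (Scheme.Modules.pullback t).obj L ≅ L)
    {s : Coh.structureModule X ⟶ L} {x : X} {hx : t x ∈ CohB1.genLocus L s} (h : TanAt s (t x) hx)
    (hx' : x ∈ CohB1.genLocus L (K5.VACrit.tr t ψ s)) : TanAt (K5.VACrit.tr t ψ s) x hx' := by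
  have hle : CohB1.genLocus L (K5.VACrit.tr t ψ s) ≤ t ⁻¹ᵁ CohB1.genLocus L s := (genLocus_tr t ψ s).le
  intro z hz
  obtain ⟨z', rfl⟩ := (asIso (t.stalkMap x)).commRingCatIsoToRingEquiv.surjective z
  have hz' : z' ∈ IsLocalRing.maximalIdeal (X.presheaf.stalk (t x)) := by
    rw [IsLocalRing.mem_maximalIdeal, mem_nonunits_iff] at hz ⊢
    exact fun hu => hz (hu.map _)
  have h1 := h hz'
  have h2 : (t.stalkMap x) z' ∈ (Ideal.span {g | ∃ a ∈ ratSet s, t x ∉ X.basicOpen a ∧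
      g = X.presheaf.germ (CohB1.genLocus L s) (t x) hx a}).map (t.stalkMap x).hom := Ideal.mem_map_of_mem _ h1
  rw [Ideal.map_span] at h2
  refine Ideal.span_le.mpr ?_ h2
  rintro _ ⟨_, ⟨a, ha, hxa, rfl⟩, rfl⟩
  refine Ideal.subset_span ⟨ores hle (t.app _ a), tr_mem_ratSet t ψ ha hle, ?_, ?_⟩
  · intro hxa'
    obtain ⟨s', hs'⟩ := ha
    apply hxa
    rw [basicOpen_of_rat hs']
    refine ⟨hx, ?_⟩
    have h3 : X.basicOpen (ores hle (t.app _ a)) = CohB1.genLocus L (K5.VACrit.tr t ψ s) ⊓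
        CohB1.genLocus L (K5.VACrit.tr t ψ s') := by
      apply basicOpen_of_rat
      rw [← res_sec (K5.VACrit.tr t ψ s') hle, ← res_sec (K5.VACrit.tr t ψ s) hle, sec_tr, sec_tr, hs',
        pullSec_smul, ← res_smul]
      congr 1
      exact Scheme.Modules.Hom.app_smul _ _ _
    rw [h3] at hxa'
    exact (mem_genLocus_tr t ψ s' x).mp hxa'.2
  · rw [germ_ores hle x hx']
    exact Scheme.Hom.germ_stalkMap_apply t _ x hx a

theorem Tan.tr (t : X ⟶ X) [IsIso t] (ψ : (Scheme.Modules.pullback t).obj L ≅ L) {x : X} (h : Tan L (t x)) :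
    Tan L x := by
  obtain ⟨s, hx, hs⟩ := h
  exact ⟨K5.VACrit.tr t ψ s, (mem_genLocus_tr t ψ s x).mpr hx, hs.tr t ψ _⟩

end K5.VACrit
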