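import Groth.Agent.AlgGrp.K5.TanPt
import Groth.Agent.AlgGrp.K5.Trans

/-!
# Very ampleness on homogeneous varieties in characteristic zero
-/

set_option autoImplicit false
universe u
open CategoryTheory CategoryTheory.Limits AlgebraicGeometry TopologicalSpace Opposite
open Groth.Agent.Fdesc.LocGen
open Groth.Agent

namespace K5.VACrit

variable {X : Scheme.{u}} {k : Type u} [Field k] (f : X ⟶ Spec (CommRingCat.of k)) {L : X.Modules}

/-- A nonempty open set of a Jacobson space contains a closed point. -/
theorem exists_closed_mem [JacobsonSpace X] (U : X.Opens) {x : X} (hx : x ∈ U) :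
    ∃ y : X, IsClosed ({y} : Set X) ∧ y ∈ U := by
  by_contra hcon
  push Not at hcon
  have h1 : closure ((Uᶜ : Set X) ∩ closedPoints X) = (Uᶜ : Set X) :=
    JacobsonSpace.closure_inter_closedPoints U.isOpen.isClosed_compl
  have h2 : closure (closedPoints X) = Set.univ := by
    have := JacobsonSpace.closure_inter_closedPoints (X := X) isClosed_univ
    rwa [Set.univ_inter] at this
  have h3 : (Uᶜ : Set X) ∩ closedPoints X = closedPoints X := by
    rw [Set.inter_eq_right]
    intro y hy
    exact hcon y hy
  rw [h3, h2] at h1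
  have h4 : x ∈ (Uᶜ : Set X) := by rw [← h1]; trivial
  exact h4 hx

/-- Generation by global sections on a homogeneous scheme. -/
theorem globally_generated [JacobsonSpace X]
    (htrans : ∀ x y : X, IsClosed ({x} : Set X) → IsClosed ({y} : Set X) →
      ∃ t : X ⟶ X, IsIso t ∧ Nonempty ((Scheme.Modules.pullback t).obj L ≅ L) ∧ t x = y)
    (s₀ : Coh.structureModule X ⟶ L) {v : X} (hv : v ∈ CohB1.genLocus L s₀) (x : X) :
    ∃ s : Coh.structureModule X ⟶ L, x ∈ CohB1.genLocus L s := by
  obtain ⟨y, hy, hys⟩ := exists_closed_mem _ hv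
  let W : X.Opens := ⨆ s : Coh.structureModule X ⟶ L, CohB1.genLocus L s
  have hW : W = ⊤ := by
    rw [← TopologicalSpace.Opens.coe_inj]
    by_contra hne
    have h1 : ((Wᶜ : Set X)).Nonempty := by
      rw [Set.nonempty_iff_ne_empty]
      intro h
      apply hne
      rw [Set.compl_empty_iff] at h
      rw [h]; rfl
    have h2 : (Wᶜ ∩ closedPoints X : Set X).Nonempty := by
      rw [Set.nonempty_iff_ne_empty]
      intro h
      have h3 := JacobsonSpace.closure_inter_closedPoints (X := X) W.isOpen.isClosed_compl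
      rw [h, closure_empty] at h3
      exact h1.ne_empty h3.symm
    obtain ⟨z, hzW, hz⟩ := h2
    obtain ⟨t, ht, ⟨ψ⟩, htz⟩ := htrans z y hz hy
    apply hzW
    have h4 : z ∈ CohB1.genLocus L (tr t ψ s₀) := by
      rw [mem_genLocus_tr, htz]
      exact hys
    exact TopologicalSpace.Opens.mem_iSup.mpr ⟨_, h4⟩
  have h5 : x ∈ W := by rw [hW]; trivial
  exact TopologicalSpace.Opens.mem_iSup.mp h5

/-- An ample module on a homogeneous scheme in characteristic zero, with a nonzero section and whose sections separate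
one closed point from the others, is very ample. -/
theorem isRelVeryAmplePn_of_homogeneous [IsAlgClosed k] [CharZero k] [IsProper f] [IsIntegral X]
    (hL : CohB1.IsAmple L)
    (htrans : ∀ x y : X, IsClosed ({x} : Set X) → IsClosed ({y} : Set X) →
      ∃ t : X ⟶ X, IsIso t ∧ Nonempty ((Scheme.Modules.pullback t).obj L ≅ L) ∧ t x = y)
    (s₀ : Coh.structureModule X ⟶ L) {v₀ : X} (hv₀ : v₀ ∈ CohB1.genLocus L s₀)
    {v : X} (hv : IsClosed ({v} : Set X)) (hrel : ∀ y : X, IsClosed ({y} : Set X) → Rel L v y → y = v) :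
    RelAmple.IsRelVeryAmplePn f L := by
  have hJ : JacobsonSpace X := LocallyOfFiniteType.jacobsonSpace f
  have hgg := globally_generated htrans s₀ hv₀
  refine isRelVeryAmplePn f hL hgg ?_ ?_
  · intro x y hx hy hxy
    by_contra hcon
    push Not at hcon
    obtain ⟨t, ht, ⟨ψ⟩, htx⟩ := htrans x v hx hv
    have h1 : Rel L x y := fun s hs hys => hcon s hs hys
    have h2 := h1.tr ψ
    rw [htx] at h2
    have hty : IsClosed ({t y} : Set X) := by
      have h3 := (TopCat.homeoOfIso (asIso t.base)).isClosedMap _ hy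
      rw [Set.image_singleton] at h3
      exact h3
    have h3 := hrel _ hty h2
    apply hxy
    have h4 : Function.Injective t := (TopCat.homeoOfIso (asIso t.base)).injective
    exact h4 (htx.trans h3.symm)
  · intro x hx
    obtain ⟨x₀, hx₀, ht₀⟩ := exists_tan f hL hgg
    obtain ⟨t, ht, ⟨ψ⟩, htx⟩ := htrans x x₀ hx hx₀
    rw [← htx] at ht₀
    exact ht₀.tr t ψ

end K5.VACrit
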