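import Groth.Agent.AlgGrp.K5.StabArg
import Groth.Agent.Sga3C.ClosedSub
import Groth.Agent.Books.BorelOrb
import Groth.Agent.S8020
import Mathlib.AlgebraicGeometry.Morphisms.FlatDescent

/-!
# Orbit maps and stabilizers
-/

set_option autoImplicit false
universe u
open CategoryTheory CategoryTheory.Limits MonoidalCategory CartesianMonoidalCategory MonObj GrpObj AlgebraicGeometry
open TopologicalSpace

namespace K5.Orb

open K492.Act K5.Stab

variable {k : Type u} [Field k] {G Y : Over (Spec (CommRingCat.of k))} [GrpObj G]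

theorem isClosedImmersion_point [IsSeparated Y.hom] (o : 𝟙_ (Over (Spec (CommRingCat.of k))) ⟶ Y) :
    IsClosedImmersion o.left := by
  have h1 : IsClosedImmersion (o.left ≫ Y.hom) := by
    rw [Over.w]
    exact inferInstanceAs (IsClosedImmersion (𝟙 _))
  exact IsClosedImmersion.of_comp o.left Y.hom

/-- The stabilizer of a rational point of a separated scheme. -/
theorem exists_stab [IsSeparated Y.hom] (a : AlgGrp.Action G Y) (o : 𝟙_ (Over (Spec (CommRingCat.of k))) ⟶ Y) :
    ∃ (P : Over (Spec (CommRingCat.of k))) (_ : GrpObj P) (i : P ⟶ G), IsMonHom i ∧ IsClosedImmersion i.left ∧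
      IsPullback i (toUnit P) (a.orbitMap o) o := by
  let N : Over (Spec (CommRingCat.of k)) := Limits.pullback (a.orbitMap o) o
  let i : N ⟶ G := Limits.pullback.fst (a.orbitMap o) o
  have hsq : IsPullback i (toUnit N) (a.orbitMap o) o := by
    have h := IsPullback.of_hasPullback (a.orbitMap o) o
    rwa [toUnit_unique (Limits.pullback.snd (a.orbitMap o) o) (toUnit N)] at h
  have hmi : Mono i := mono_of_stab hsq
  have hpt : ∀ {T : Over (Spec (CommRingCat.of k))} (g : T ⟶ G), (∃ n : T ⟶ N, n ≫ i = g) ↔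
      g ≫ a.orbitMap o = toUnit T ≫ o := by
    intro T g
    constructor
    · rintro ⟨n, rfl⟩
      rw [Category.assoc, hsq.w, ← Category.assoc, comp_toUnit]
    · intro h
      exact ⟨hsq.lift g (toUnit T) h, hsq.lift_fst _ _ _⟩
  obtain ⟨gN, hi⟩ : ∃ _ : GrpObj N, IsMonHom i := by
    refine Groth.Agent.Sga3C.ClosedSub.exists_grpObj_of_mono i ?_ ?_ ?_
    · rw [hpt, show η[G] = (1 : 𝟙_ _ ⟶ G) from one_eq_one _, one_comp_orbitMap]
    · rw [hpt]
      have h1 : (i ⊗ₘ i) ≫ μ[G] = (fst N N ≫ i) * (snd N N ≫ i) := by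
        rw [Hom.mul_def]
        congr 1
      rw [h1, mul_comp_orbitMap, (hpt (snd N N ≫ i)).1 ⟨snd N N, rfl⟩, ← comp_orbitMap,
        (hpt (fst N N ≫ i)).1 ⟨fst N N, rfl⟩]
    · rw [hpt]
      have h3 : (i⁻¹ * i) ≫ a.orbitMap o = toUnit N ≫ o := by rw [inv_mul_cancel, one_comp_orbitMap]
      rw [mul_comp_orbitMap, hsq.w, ← comp_orbitMap] at h3
      exact h3
  have hco : IsClosedImmersion o.left := isClosedImmersion_point o
  have hsq' := hsq.map (Over.forget _)
  exact ⟨N, gN, i, hi, MorphismProperty.of_isPullback (P := @IsClosedImmersion) hsq'.flip hco, hsq⟩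

/-- The cartesian square of a cell `w : U ⟶ G` and the orbit map. -/
theorem isPullback_cell {P U : Over (Spec (CommRingCat.of k))} {a : AlgGrp.Action G Y}
    {o : 𝟙_ (Over (Spec (CommRingCat.of k))) ⟶ Y} {i : P ⟶ G} (hP : IsPullback i (toUnit P) (a.orbitMap o) o)
    (w : U ⟶ G) : IsPullback ((w ⊗ₘ i) ≫ μ[G]) (fst U P) (a.orbitMap o) (w ≫ a.orbitMap o) := by
  have hmi : Mono i := mono_of_stab hP
  have hpt : ∀ {T : Over (Spec (CommRingCat.of k))} (z : T ⟶ U ⊗ P), z ≫ (w ⊗ₘ i) ≫ μ[G] =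
      (z ≫ fst U P ≫ w) * (z ≫ snd U P ≫ i) := by
    intro T z
    rw [Hom.mul_def, ← Category.assoc]
    congr 1
    apply CartesianMonoidalCategory.hom_ext <;> simp
  have hw : ((w ⊗ₘ i) ≫ μ[G]) ≫ a.orbitMap o = fst U P ≫ w ≫ a.orbitMap o := by
    have h1 := (stab_eq_iff hP (fst U P ≫ w) ((w ⊗ₘ i) ≫ μ[G])).mpr ⟨snd U P, by
      have := hpt (𝟙 _)
      simpa only [Category.id_comp] using this⟩
    rw [← h1, Category.assoc]
  refine ⟨⟨hw⟩, ⟨Limits.PullbackCone.IsLimit.mk _
    (fun c => lift c.snd ((stab_eq_iff hP (c.snd ≫ w) c.fst).1 (by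
      rw [Category.assoc]; exact c.condition.symm)).choose) ?_ ?_ ?_⟩⟩
  · intro c
    rw [hpt, lift_fst_assoc, lift_snd_assoc]
    exact ((stab_eq_iff hP (c.snd ≫ w) c.fst).1 (by
      rw [Category.assoc]; exact c.condition.symm)).choose_spec.symm
  · intro c
    exact lift_fst _ _
  · intro c m h1 h2
    apply CartesianMonoidalCategory.hom_ext
    · rw [lift_fst, h2]
    · rw [lift_snd, ← cancel_mono i]
      rw [hpt, ← Category.assoc, h2] at h1
      have h3 := h1.trans ((stab_eq_iff hP (c.snd ≫ w) c.fst).1 (by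
        rw [Category.assoc]; exact c.condition.symm)).choose_spec
      rw [Category.assoc]
      exact mul_left_cancel h3

/-- If `U × P ⟶ G` is an open immersion, so is `U ⟶ G/P`. -/
theorem isOpenImmersion_cell {P U : Over (Spec (CommRingCat.of k))} [QuasiCompact G.hom] [QuasiSeparated Y.hom]
    {a : AlgGrp.Action G Y}
    {o : 𝟙_ (Over (Spec (CommRingCat.of k))) ⟶ Y} {i : P ⟶ G} (hP : IsPullback i (toUnit P) (a.orbitMap o) o)
    (h1 : Flat (a.orbitMap o).left) (h2 : Surjective (a.orbitMap o).left)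
    (w : U ⟶ G) (hw : IsOpenImmersion ((w ⊗ₘ i) ≫ μ[G]).left) : IsOpenImmersion (w ≫ a.orbitMap o).left := by
  have h3 : QuasiCompact (a.orbitMap o).left := by
    have : QuasiCompact ((a.orbitMap o).left ≫ Y.hom) := by rw [Over.w]; infer_instance
    exact QuasiCompact.of_comp (a.orbitMap o).left Y.hom
  have h4 := (isPullback_cell hP w).map (Over.forget _)
  exact MorphismProperty.of_isPullback_of_descendsAlong (P := @IsOpenImmersion)
    (Q := @Surjective ⊓ @Flat ⊓ @QuasiCompact) h4 ⟨⟨h2, h1⟩, h3⟩ hw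

theorem pt_surj {X Z : Over (Spec (CommRingCat.of k))} [IsAlgClosed k] [LocallyOfFiniteType X.hom]
    [LocallyOfFiniteType Z.hom] (f : X ⟶ Z) (z : 𝟙_ (Over (Spec (CommRingCat.of k))) ⟶ Z)
    (hz : pt z ∈ Set.range f.left) : ∃ x : 𝟙_ (Over (Spec (CommRingCat.of k))) ⟶ X, x ≫ f = z := by
  have hJ : JacobsonSpace X.left := LocallyOfFiniteType.jacobsonSpace X.hom
  obtain ⟨x₀, hx₀⟩ := hz
  have h1 : IsClosed (f.left ⁻¹' {pt z}) := (isClosed_pt z).preimage f.left.continuous
  obtain ⟨x, hx, hxc⟩ := nonempty_inter_closedPoints (Z := f.left ⁻¹' {pt z}) ⟨x₀, hx₀⟩ h1.isLocallyClosed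
  obtain ⟨w, rfl⟩ := exists_pt_eq X x hxc
  refine ⟨w, pt_ext _ _ ?_⟩
  rw [pt_comp]
  exact hx

variable [IsAlgClosed k] [LocallyOfFiniteType G.hom] [QuasiCompact G.hom]
  [LocallyOfFiniteType Y.hom] [QuasiCompact Y.hom] [IsReduced Y.left]

omit [IsAlgClosed k] [LocallyOfFiniteType G.hom] [QuasiCompact G.hom] [LocallyOfFiniteType Y.hom]
  [QuasiCompact Y.hom] [IsReduced Y.left] [GrpObj G] in
theorem nonempty_unitIso (φ : CommRingCat.of k ⟶ CommRingCat.of k) (h : φ = 𝟙 _) :
    Nonempty (𝟙_ (Over (Spec (CommRingCat.of k))) ≅ Over.mk (Spec.map φ)) := by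
  have h1 : Spec.map φ = 𝟙 (Spec (CommRingCat.of k)) := by rw [h, Spec.map_id]
  rw [h1]
  exact ⟨Iso.refl _⟩

/-- Transitivity on rational points makes the orbit maps faithfully flat. -/
theorem flat_orbit (a : AlgGrp.Action G Y)
    (htrans : ∀ y y' : 𝟙_ (Over (Spec (CommRingCat.of k))) ⟶ Y,
      ∃ g : 𝟙_ (Over (Spec (CommRingCat.of k))) ⟶ G, lift g y ≫ a.act = y')
    (o : 𝟙_ (Over (Spec (CommRingCat.of k))) ⟶ Y) :
    Flat (a.orbitMap o).left ∧ Surjective (a.orbitMap o).left := by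
  have hne : Nonempty G.left := ⟨pt η[G]⟩
  obtain ⟨e⟩ := nonempty_unitIso (k := k) (CommRingCat.ofHom (algebraMap k k)) (by
    rw [Algebra.algebraMap_self]; rfl)
  refine Groth.Agent.S8020.result k k G G Y (Groth.Agent.Books.BorelOrb.leftAct G) a (a.orbitMap o) ?_ ?_
  · have h1 : (Groth.Agent.Books.BorelOrb.leftAct G).act = fst G G * snd G G := by
      have := Groth.Agent.Books.BorelOrb.sm_leftAct (fst G G) (snd G G)
      rw [Groth.Agent.Books.BorelOrb.sm, lift_fst_snd, Category.id_comp] at this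
      exact this
    have h2 : (G ◁ a.orbitMap o) = lift (fst G G) (snd G G ≫ a.orbitMap o) := by
      apply CartesianMonoidalCategory.hom_ext <;> simp
    rw [h1, h2, mul_comp_orbitMap]
  · intro y y'
    obtain ⟨g, hg⟩ := htrans (e.hom ≫ y) (e.hom ≫ y')
    refine ⟨e.inv ≫ g, ?_⟩
    rw [← cancel_epi e.hom, ← hg, ← Category.assoc, comp_lift, Iso.hom_inv_id_assoc]

omit [IsReduced Y.left] [IsAlgClosed k] [QuasiCompact Y.hom] in
theorem isOpenMap_of_flat {X : Over (Spec (CommRingCat.of k))} [LocallyOfFiniteType X.hom] (f : X ⟶ Y)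
    (hf : Flat f.left) : IsOpenMap f.left := by
  have h1 : IsLocallyNoetherian Y.left := LocallyOfFiniteType.isLocallyNoetherian Y.hom
  have h2 : LocallyOfFiniteType f.left := by
    have : LocallyOfFiniteType (f.left ≫ Y.hom) := by rw [Over.w]; infer_instance
    exact locallyOfFiniteType_of_comp f.left Y.hom
  have h3 : LocallyOfFinitePresentation f.left := LocallyOfFinitePresentation.iff_locallyOfFiniteType.mpr h2
  exact f.left.isOpenMap

/-- An open subgroup of a group acting transitively on an irreducible scheme acts transitively. -/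
theorem trans_open [IrreducibleSpace Y.left] (a : AlgGrp.Action G Y)
    (htrans : ∀ y y' : 𝟙_ (Over (Spec (CommRingCat.of k))) ⟶ Y,
      ∃ g : 𝟙_ (Over (Spec (CommRingCat.of k))) ⟶ G, lift g y ≫ a.act = y')
    {H : Over (Spec (CommRingCat.of k))} [GrpObj H] (u : H ⟶ G) [IsMonHom u] [IsOpenImmersion u.left]
    (b : AlgGrp.Action H Y) (hb : b.act = (u ▷ Y) ≫ a.act) (y y' : 𝟙_ (Over (Spec (CommRingCat.of k))) ⟶ Y) :
    ∃ g : 𝟙_ (Over (Spec (CommRingCat.of k))) ⟶ H, lift g y ≫ b.act = y' := by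
  have hJ : JacobsonSpace Y.left := LocallyOfFiniteType.jacobsonSpace Y.hom
  have hH : LocallyOfFiniteType H.hom := by rw [← Over.w u]; infer_instance
  have horb : ∀ z : 𝟙_ (Over (Spec (CommRingCat.of k))) ⟶ Y, IsOpenMap (b.orbitMap z).left := by
    intro z
    have h1 : b.orbitMap z = u ≫ a.orbitMap z := by
      rw [AlgGrp.Action.orbitMap, hb, comp_orbitMap]
      rw [← Category.assoc]
      congr 1
      apply CartesianMonoidalCategory.hom_ext <;> simp
    rw [h1]
    have h2 := (flat_orbit a htrans z).1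
    refine isOpenMap_of_flat _ ?_
    rw [Over.comp_left]
    infer_instance
  have hne : (Set.range (b.orbitMap y).left ∩ Set.range (b.orbitMap y').left).Nonempty :=
    nonempty_preirreducible_inter (horb y).isOpen_range (horb y').isOpen_range
      ⟨_, pt η[H], rfl⟩ ⟨_, pt η[H], rfl⟩
  obtain ⟨z, ⟨hz1, hz2⟩, hz⟩ := nonempty_inter_closedPoints hne
    ((horb y).isOpen_range.inter (horb y').isOpen_range).isLocallyClosed
  obtain ⟨w, rfl⟩ := exists_pt_eq Y z hz
  obtain ⟨g, hg⟩ := pt_surj (b.orbitMap y) w hz1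
  obtain ⟨g', hg'⟩ := pt_surj (b.orbitMap y') w hz2
  refine ⟨g'⁻¹ * g, ?_⟩
  rw [lift_mul_act]
  rw [comp_orbitMap, K5.Stab.toUnit_unit] at hg hg'
  rw [hg, ← hg', ← lift_mul_act, inv_mul_cancel, lift_one_act]

end K5.Orb
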