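import Groth.Agent.Grpsch.PicGrp
import Groth.Agent.Sga5.AmpleFib
import Groth.Agent.S2336
import Groth.Agent.S2327
import Groth.Agent.S2328
import Groth.Agent.Ega2.Weight
import Groth.Agent.CurvSt.K899.GenAff
import Mathlib.AlgebraicGeometry.Artinian

/-!
# The ample generator of the Picard group is fixed by automorphisms
-/

set_option autoImplicit false
universe u
open CategoryTheory CategoryTheory.Limits AlgebraicGeometry TopologicalSpace Opposite
open Groth.Agent.Fdesc.LocGen
open Groth.Agent Groth.Agent.Grpsch.PicGrp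

namespace K5.PicTrans

variable {X : Scheme.{u}} {k : Type u} [Field k] (f : X ⟶ Spec (CommRingCat.of k)) [IsProper f]

include f in
theorem dim_of_isQuasiAffine (h : X.IsQuasiAffine) : topologicalKrullDim X ≤ 0 := by
  have hfin : IsFinite f := Groth.Agent.Sga5.AmpleFib.isFinite_of_isQuasiAffine f
  have hN : IsLocallyNoetherian X := LocallyOfFiniteType.isLocallyNoetherian f
  have hA : IsAffine X := isAffine_of_isAffineHom f
  have h1 : IsArtinianRing Γ(X, ⊤) := by
    have h2 : (f.appTop).hom.Finite := IsFinite.finite_app f ⊤ (isAffineOpen_top _)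
    have h3 : RingHom.Finite (f.appTop.hom.comp (Scheme.ΓSpecIso (CommRingCat.of k)).inv.hom) :=
      h2.comp (RingHom.Finite.of_surjective _
        (Scheme.ΓSpecIso (CommRingCat.of k)).symm.commRingCatIsoToRingEquiv.surjective)
    algebraize [f.appTop.hom.comp (Scheme.ΓSpecIso (CommRingCat.of k)).inv.hom]
    exact IsArtinianRing.of_finite k Γ(X, ⊤)
  have h4 : DiscreteTopology (PrimeSpectrum Γ(X, ⊤)) := inferInstance
  have h5 : DiscreteTopology X := by
    have e := X.isoSpec.hom.homeomorph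
    have h6 : DiscreteTopology (Spec Γ(X, ⊤)) := h4
    exact e.symm.discreteTopology
  exact topologicalKrullDim_zero_of_discreteTopology X

include f in
/-- The structure module is not ample in positive dimension. -/
theorem not_isAmple_structureModule (hdim : 0 < topologicalKrullDim X) :
    ¬ CohB1.IsAmple (Coh.structureModule X) := by
  intro h
  have h1 : CompactSpace X := h.2.1
  have h2 : X.IsSeparated := by
    constructor
    have h6 : IsSeparated (f ≫ terminal.from _) := inferInstance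
    rwa [Subsingleton.elim (terminal.from X) (f ≫ terminal.from _)]
  have h3 : X.IsQuasiAffine := (Groth.Agent.S2336.result X).mpr h
  exact absurd (dim_of_isQuasiAffine f h3) (not_le.mpr hdim)

/-- Ample classes. -/
def Amp (c : Pic X) : Prop := ∃ (M : X.Modules) (hM : PicF.IsInvertible M), c = mk M hM ∧ CohB1.IsAmple M

theorem Amp.isAmple {M : X.Modules} {hM : PicF.IsInvertible M} (h : Amp (mk M hM)) : CohB1.IsAmple M := by
  obtain ⟨N, hN, e, hNa⟩ := h
  obtain ⟨φ⟩ := (mk_eq_iff hM hN).mp e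
  exact Ega2.Weight.isAmple_of_iso φ.symm hNa

include f in
theorem not_amp_one (hdim : 0 < topologicalKrullDim X) : ¬ Amp (1 : Pic X) := fun h =>
  not_isAmple_structureModule f hdim h.isAmple

include f in
theorem isSeparated_of : X.IsSeparated := by
  constructor
  have h6 : IsSeparated (f ≫ terminal.from _) := inferInstance
  rwa [Subsingleton.elim (terminal.from X) (f ≫ terminal.from _)]

include f in
theorem Amp.pow {c : Pic X} (h : Amp c) {n : ℕ} (hn : 0 < n) : Amp (c ^ n) := by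
  obtain ⟨M, hM, rfl, hMa⟩ := h
  have h1 : CompactSpace X := hMa.2.1
  have h2 : X.IsSeparated := isSeparated_of f
  exact ⟨CohB1.tensorPow M n, isInvertible_tensorPow hM n, (mk_tensorPow hM n).symm,
    (S2327.result X M hM n hn).1 hMa⟩

include f in
theorem Amp.mul {c d : Pic X} (h : Amp c) (h' : Amp d) : Amp (c * d) := by
  obtain ⟨M, hM, rfl, hMa⟩ := h
  obtain ⟨N, hN, rfl, hNa⟩ := h'
  have h1 : CompactSpace X := hMa.2.1
  have h2 : X.IsSeparated := isSeparated_of f
  refine ⟨CohB1.tensorMod M N, isInvertible_tensorMod hM hN, mk_mul_mk hM hN, ?_⟩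
  refine S2328.result X M N hMa hN fun x => ?_
  obtain ⟨n, s, hx, -⟩ := hNa.2.2 x
  exact ⟨n, s, hx⟩

theorem Amp.pull {c : Pic X} (h : Amp c) (t : X ⟶ X) [IsIso t] : Amp (Groth.Agent.Grpsch.PicGrp.pull t c) := by
  obtain ⟨M, hM, rfl, hMa⟩ := h
  exact ⟨_, isInvertible_pullback t hM, rfl, Groth.Agent.Sga5.AmpleFib.isAmple_pullback t hMa⟩

include f in
theorem exists_pow {ℓ : Pic X} (hℓ : Amp ℓ) (hdim : 0 < topologicalKrullDim X)
    (hgen : ∀ c : Pic X, ∃ n : ℕ, c = ℓ ^ n ∨ c * ℓ ^ n = 1) {c : Pic X} (hc : Amp c) :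
    ∃ n : ℕ, 0 < n ∧ c = ℓ ^ n := by
  obtain ⟨n, h | h⟩ := hgen c
  · refine ⟨n, Nat.pos_of_ne_zero ?_, h⟩
    rintro rfl
    rw [pow_zero] at h
    exact not_amp_one f hdim (h ▸ hc)
  · exfalso
    rcases Nat.eq_zero_or_pos n with rfl | hn
    · rw [pow_zero, mul_one] at h
      exact not_amp_one f hdim (h ▸ hc)
    · exact not_amp_one f hdim (h ▸ hc.mul f (hℓ.pow f hn))

include f in
/-- Automorphisms fix the ample generator of the Picard group. -/
theorem pull_eq {ℓ : Pic X} (hℓ : Amp ℓ) (hdim : 0 < topologicalKrullDim X)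
    (hgen : ∀ c : Pic X, ∃ n : ℕ, c = ℓ ^ n ∨ c * ℓ ^ n = 1) (t : X ⟶ X) [IsIso t] : pull t ℓ = ℓ := by
  obtain ⟨n, hn, h1⟩ := exists_pow f hℓ hdim hgen (hℓ.pull t)
  obtain ⟨m, hm, h2⟩ := exists_pow f hℓ hdim hgen (hℓ.pull (inv t))
  have h3 : ℓ = ℓ ^ (n * m) := by
    have h4 : pull (t ≫ inv t) ℓ = ℓ := by rw [IsIso.hom_inv_id, pull_id]
    rw [pull_comp, h2, map_pow, h1, ← pow_mul] at h4
    exact h4.symm
  have h5 : n * m = 1 := by
    by_contra hne
    have hpos : 0 < n * m := Nat.mul_pos hn hm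
    obtain ⟨r, hr⟩ : ∃ r, n * m = (r + 1) + 1 := ⟨n * m - 2, by omega⟩
    rw [hr, pow_succ] at h3
    have h6 : ℓ ^ (r + 1) = 1 := by
      have h7 : (1 : Pic X) * ℓ = ℓ ^ (r + 1) * ℓ := by rw [one_mul]; exact h3
      exact (mul_right_cancel h7).symm
    exact not_amp_one f hdim (h6 ▸ hℓ.pow f (Nat.succ_pos r))
  have h6 : n = 1 := Nat.eq_one_of_mul_eq_one_right h5
  rw [h1, h6, pow_one]

include f in
theorem nonempty_pullback_iso {L : X.Modules} (hL : CohB1.IsAmple L) (hdim : 0 < topologicalKrullDim X)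
    (hgen : ∀ M : X.Modules, PicF.IsInvertible M → ∃ n : ℕ,
      Nonempty (M ≅ CohB1.tensorPow L n) ∨
        Nonempty (CohB1.tensorMod M (CohB1.tensorPow L n) ≅ Coh.structureModule X)) (t : X ⟶ X) [IsIso t] :
    Nonempty ((Scheme.Modules.pullback t).obj L ≅ L) := by
  have h1 : ∀ c : Pic X, ∃ n : ℕ, c = mk L hL.1 ^ n ∨ c * mk L hL.1 ^ n = 1 := by
    intro c
    obtain ⟨M, hM, rfl⟩ := exists_mk c
    obtain ⟨n, h | h⟩ := hgen M hM
    · obtain ⟨e⟩ := h
      exact ⟨n, Or.inl (by rw [← mk_tensorPow hL.1 n]; exact mk_congr e)⟩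
    · obtain ⟨e⟩ := h
      exact ⟨n, Or.inr (by rw [← mk_tensorPow hL.1 n]; exact mk_congr e)⟩
  have h2 := pull_eq f ⟨L, hL.1, rfl, hL⟩ hdim h1 t
  rw [pull_mk] at h2
  exact (mk_eq_iff _ _).mp h2

end K5.PicTrans
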