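import Groth.Agent.AlgGrp.K5.OrbGrp
import Groth.Agent.AGF.K501.RadSch
import Groth.Agent.S3278
import Groth.Agent.S8093
import Groth.Agent.S17091
import Groth.Agent.S3904
import Groth.Agent.S8009
import Groth.Agent.S0353
import Groth.Agent.AlgGrp.K403.QuotAct
import Groth.Agent.Sga3.H219.NeutralK
import Groth.Prelude.Def_ChGrp

/-!
# Projective homogeneous varieties are homogeneous under reductive groups
-/

set_option autoImplicit false
universe u
open CategoryTheory CategoryTheory.Limits MonoidalCategory CartesianMonoidalCategory MonObj GrpObj AlgebraicGeometry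
open TopologicalSpace

namespace K5.RedQuot

open K492.Act K5.Stab K5.Orb

variable {k : Type u} [Field k] [IsAlgClosed k] [CharZero k] {G Y : Over (Spec (CommRingCat.of k))} [GrpObj G]

/-- The stabilizer of a rational point of a proper homogeneous scheme is a parabolic subgroup. -/
theorem exists_parabolic_stab [IsAffine G.left] [Smooth G.hom] [ConnectedSpace G.left] [IsProper Y.hom]
    [IsReduced Y.left] (a : AlgGrp.Action G Y)
    (htrans : ∀ y y' : 𝟙_ (Over (Spec (CommRingCat.of k))) ⟶ Y,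
      ∃ g : 𝟙_ (Over (Spec (CommRingCat.of k))) ⟶ G, lift g y ≫ a.act = y')
    (o : 𝟙_ (Over (Spec (CommRingCat.of k))) ⟶ Y) :
    ∃ (P : Over (Spec (CommRingCat.of k))) (_ : GrpObj P) (i : P ⟶ G),
      Red.IsParabolicOver k i ∧ IsPullback i (toUnit P) (a.orbitMap o) o := by
  obtain ⟨P, gP, i, hi, hcl, hsq⟩ := exists_stab a o
  have h1 := flat_orbit a htrans o
  have hQ : AGF.IsQuotient i Y a o := (Groth.Agent.S8009.result k G Y P a o i hsq).mpr h1
  have hlft : LocallyOfFiniteType P.hom := by rw [← Over.w i]; infer_instance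
  have hsm : Smooth P.hom := Groth.Agent.S0353.result k P
  exact ⟨P, gP, i, (Groth.Agent.S3904.result k G P i hcl Y a o hQ).mp inferInstance, hsq⟩

/-- The unipotent radical fixes all rational points. -/
theorem rad_fix [IsAffine G.left] [Smooth G.hom] [ConnectedSpace G.left] [IsProper Y.hom]
    [IsReduced Y.left] (a : AlgGrp.Action G Y)
    (htrans : ∀ y y' : 𝟙_ (Over (Spec (CommRingCat.of k))) ⟶ Y,
      ∃ g : 𝟙_ (Over (Spec (CommRingCat.of k))) ⟶ G, lift g y ≫ a.act = y')
    {U : Over (Spec (CommRingCat.of k))} [GrpObj U] (u : U ⟶ G) (hU : Par.IsUnipotentRadical u)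
    (o : 𝟙_ (Over (Spec (CommRingCat.of k))) ⟶ Y) : u ≫ a.orbitMap o = toUnit U ≫ o := by
  obtain ⟨P, gP, i, ⟨hi, hcl, hsm, B, gB, b, hB⟩, hsq⟩ := exists_parabolic_stab a htrans o
  have hBcl : IsClosedImmersion (b ≫ i).left := hB.2.1
  have hBaff : IsAffine B.left := isAffine_of_isAffineHom (b ≫ i).left
  have hBsm : Smooth B.hom := hB.2.2.1
  obtain ⟨V, gV, v, hV⟩ := K501.RadSch.exists_isUnipotentRadical B
  obtain ⟨f, hf⟩ := Groth.Agent.S17091.result k G U u hU B (b ≫ i) hB V v hV
  rw [← hf]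
  simp only [Category.assoc]
  rw [hsq.w]
  simp only [← Category.assoc]
  rw [comp_toUnit]

instance smooth_tensor (X Y : Over (Spec (CommRingCat.of k))) [Smooth X.hom] [Smooth Y.hom] :
    Smooth (X ⊗ Y).hom := by
  have h : (X ⊗ Y).hom = Limits.pullback.fst X.hom Y.hom ≫ X.hom := rfl
  rw [h]
  infer_instance

/-- The unipotent radical acts trivially. -/
theorem rad_triv [IsAffine G.left] [Smooth G.hom] [ConnectedSpace G.left] [IsProper Y.hom]
    [Smooth Y.hom] (a : AlgGrp.Action G Y)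
    (htrans : ∀ y y' : 𝟙_ (Over (Spec (CommRingCat.of k))) ⟶ Y,
      ∃ g : 𝟙_ (Over (Spec (CommRingCat.of k))) ⟶ G, lift g y ≫ a.act = y')
    {U : Over (Spec (CommRingCat.of k))} [GrpObj U] (u : U ⟶ G) (hU : Par.IsUnipotentRadical u) :
    K403.Act.Triv a u := by
  have hsmU : Smooth U.hom := hU.2.2.2.1
  have hYred : IsReduced Y.left := Groth.Agent.Books.AlgPtsSmooth.isReduced_of_smooth Y
  have hred : IsReduced (U ⊗ Y).left := Groth.Agent.Books.AlgPtsSmooth.isReduced_of_smooth (U ⊗ Y)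
  have key : lift (fst U Y ≫ u) (snd U Y) ≫ a.act = snd U Y := by
    ext1
    have : LocallyOfFiniteType ((lift (fst U Y ≫ u) (snd U Y) ≫ a.act).left ≫ Y.hom) := by
      rw [Over.w]; infer_instance
    refine ext_of_apply_eq Y.hom Set.univ isClosed_univ.isLocallyClosed dense_univ (fun x _ hx => ?_) ?_
    · obtain ⟨w, rfl⟩ := exists_pt_eq (U ⊗ Y) x hx
      rw [← pt_comp, ← pt_comp]
      congr 1
      rw [comp_lift_assoc]
      have h1 := congrArg (fun z => (w ≫ fst U Y) ≫ z) (rad_fix a htrans u hU (w ≫ snd U Y))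
      simp only [← Category.assoc] at h1
      rw [comp_orbitMap] at h1
      simp only [K5.Stab.toUnit_unit, comp_toUnit] at h1
      simpa using h1
    · rw [Over.w, Over.w]
  intro T' s x
  have h2 := congrArg (fun z => lift s x ≫ z) key
  simp only [comp_lift_assoc, lift_fst_assoc, lift_snd] at h2
  exact h2

/-- A smooth proper variety homogeneous under a linear algebraic group is homogeneous under a reductive group. -/
theorem exists_reductive [IsAffine G.left] [Smooth G.hom] [IsProper Y.hom]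
    [Smooth Y.hom] [IrreducibleSpace Y.left] (a : AlgGrp.Action G Y)
    (htrans : ∀ y y' : 𝟙_ (Over (Spec (CommRingCat.of k))) ⟶ Y,
      ∃ g : 𝟙_ (Over (Spec (CommRingCat.of k))) ⟶ G, lift g y ≫ a.act = y') :
    ∃ (Q : Over (Spec (CommRingCat.of k))) (_ : GrpObj Q) (b : AlgGrp.Action Q Y), Red.IsReductive Q ∧
      IsAffine Q.left ∧ Smooth Q.hom ∧ ConnectedSpace Q.left ∧
      ∀ y y' : 𝟙_ (Over (Spec (CommRingCat.of k))) ⟶ Y,
        ∃ g : 𝟙_ (Over (Spec (CommRingCat.of k))) ⟶ Q, lift g y ≫ b.act = y' := by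
  have hYred : IsReduced Y.left := Groth.Agent.Books.AlgPtsSmooth.isReduced_of_smooth Y
  obtain ⟨H, gH, u, hu, hucl, huo, hHsm, hHqc, hHconn, -⟩ := Groth.Agent.Sga3.H219.NeutralK.exists_neutral G
  have hHaff : IsAffine H.left := isAffine_of_isAffineHom u.left
  let b : AlgGrp.Action H Y := a.restrict u
  have hbt := trans_open a htrans u b rfl
  obtain ⟨U, gU, v, hU⟩ := K501.RadSch.exists_isUnipotentRadical H
  have hvm : IsMonHom v := hU.1
  have hvcl : IsClosedImmersion v.left := hU.2.1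
  obtain ⟨Q, gQ, q, hqm, hQaff, hQlft, hqf, hqs, hker⟩ := Groth.Agent.S3278.result k H U v hU.2.2.1
  have hQsm : Smooth Q.hom := Groth.Agent.S0353.result k Q
  have hred : Red.IsReductive Q := Groth.Agent.S8093.result k H U v hU Q q hker
  have hQconn : ConnectedSpace Q.left := q.left.surjective.connectedSpace q.left.continuous
  obtain ⟨c, hc⟩ := K403.QuotAct.exists_quotAct q b hker (rad_triv b hbt v hU)
  refine ⟨Q, gQ, c, hred, hQaff, hQsm, hQconn, fun y y' => ?_⟩
  obtain ⟨g, hg⟩ := hbt y y'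
  refine ⟨g ≫ q, ?_⟩
  rw [← hg, ← hc, ← Category.assoc, lift_whiskerRight]

end K5.RedQuot
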