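import Groth.Agent.AlgGrp.K5.PicTrans
import Groth.Agent.Fdesc.LocGenGlue
import Groth.Agent.Fdesc.LocGenAmple
import Groth.Agent.Ega3B.NormalBirational

/-!
# Extraction of roots of sections on a normal scheme
-/

set_option autoImplicit false
universe u
open CategoryTheory CategoryTheory.Limits AlgebraicGeometry TopologicalSpace Opposite
open Groth.Agent.Fdesc.LocGen
open Groth.Agent Groth.Agent.Grpsch.PicGrp

namespace K5.SecExt

variable {X : Scheme.{u}}

theorem genLocus_comp_iso {M N : X.Modules} (s : Coh.structureModule X ⟶ M) (e : M ≅ N) :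
    CohB1.genLocus N (s ≫ e.hom) = CohB1.genLocus M s := by
  apply le_antisymm
  · rw [le_genLocus_iff, ← isGen_app_iff e.hom, ← sec_comp]
    exact isGen_sec_genLocus _
  · rw [le_genLocus_iff, sec_comp, isGen_app_iff]
    exact isGen_sec_genLocus _

theorem genLocus_eq_top {k : Type u} [Field k] (f : X ⟶ Spec (CommRingCat.of k)) [IsProper f] [IsIntegral X]
    {M : X.Modules} (e : M ≅ Coh.structureModule X) (s : Coh.structureModule X ⟶ M) {x : X}
    (hx : x ∈ CohB1.genLocus M s) : CohB1.genLocus M s = ⊤ := by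
  rw [← genLocus_comp_iso s e] at hx ⊢
  obtain ⟨a, ha⟩ := (isGen_one (X := X) ⊤).exists_eq (sec (s ≫ e.hom) ⊤)
  have h1 := genLocus_inf_eq (s ≫ e.hom) (isGen_one (X := X) ⊤) ha
  rw [inf_top_eq] at h1
  rw [h1] at hx ⊢
  have hK : IsField Γ(X, ⊤) := isField_of_universallyClosed k f
  have ha0 : a ≠ 0 := by
    rintro rfl
    rw [Scheme.basicOpen_zero] at hx
    exact hx
  obtain ⟨b, hb⟩ := hK.mul_inv_cancel ha0
  exact Scheme.basicOpen_of_isUnit _ (IsUnit.of_mul_eq_one b hb)

/-- From a section `s` of an invertible module with affine nonvanishing locus `V`, a section of a positive power of the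
ample generator with nonvanishing locus `V`. -/
theorem exists_pow_section {k : Type u} [Field k] (f : X ⟶ Spec (CommRingCat.of k)) [IsProper f] [IsIntegral X]
    {L : X.Modules} (hL : CohB1.IsAmple L) (hdim : 0 < topologicalKrullDim X)
    (hgen : ∀ M : X.Modules, PicF.IsInvertible M → ∃ n : ℕ,
      Nonempty (M ≅ CohB1.tensorPow L n) ∨
        Nonempty (CohB1.tensorMod M (CohB1.tensorPow L n) ≅ Coh.structureModule X))
    {M : X.Modules} (hM : PicF.IsInvertible M) (s : Coh.structureModule X ⟶ M)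
    (hV : IsAffineOpen (CohB1.genLocus M s)) {x : X} (hx : x ∈ CohB1.genLocus M s) :
    ∃ (n : ℕ) (t : Coh.structureModule X ⟶ CohB1.tensorPow L (n + 1)),
      CohB1.genLocus _ t = CohB1.genLocus M s := by
  have hXs : X.IsSeparated := K5.PicTrans.isSeparated_of f
  have hcX : CompactSpace X := hL.2.1
  have hnaff : ∀ W : X.Opens, IsAffineOpen W → W ≠ ⊤ := by
    rintro W hW rfl
    have h1 : IsAffine X := by
      have : IsAffine (⊤ : X.Opens).toScheme := hW
      exact IsAffine.of_isIso X.topIso.inv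
    have h2 : X.IsQuasiAffine := inferInstance
    exact absurd (K5.PicTrans.dim_of_isQuasiAffine f h2) (not_le.mpr hdim)
  have hone : ¬ (mk M hM = 1) := by
    intro h
    obtain ⟨e⟩ := (mk_eq_one_iff hM).mp h
    exact hnaff _ hV (genLocus_eq_top f e s hx)
  obtain ⟨n, h | h⟩ := hgen M hM
  · obtain ⟨e⟩ := h
    rcases Nat.eq_zero_or_pos n with rfl | hn
    · exact absurd ((mk_eq_one_iff hM).mpr ⟨e⟩) hone
    · obtain ⟨m, rfl⟩ : ∃ m, n = m + 1 := ⟨n - 1, by omega⟩
      exact ⟨m, s ≫ e.hom, genLocus_comp_iso s e⟩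
  · obtain ⟨e⟩ := h
    exfalso
    have h1 : mk M hM * mk L hL.1 ^ n = 1 := by
      rw [← mk_tensorPow hL.1 n]
      exact mk_congr e
    rcases Nat.eq_zero_or_pos n with rfl | hn
    · rw [pow_zero, mul_one] at h1
      exact hone h1
    · obtain ⟨r, rfl⟩ : ∃ r, n = r + 1 := ⟨n - 1, by omega⟩
      obtain ⟨m, σ, hxσ, hσ⟩ := hL.2.2 x
      have hLm := isInvertible_tensorPow hL.1 (m + 1)
      let τ := tmulHom (powHom s (m + 1)) (powHom σ (r + 1))
      have h2 : CohB1.genLocus _ τ = CohB1.genLocus M s ⊓ CohB1.genLocus _ σ := by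
        rw [genLocus_tmulHom (isInvertible_tensorPow hM _) (isInvertible_tensorPow hLm _),
          genLocus_powHom hM, genLocus_powHom hLm]
      have h3 : mk _ (isInvertible_tensorMod (isInvertible_tensorPow hM (m + 1))
          (isInvertible_tensorPow hLm (r + 1))) = 1 := by
        rw [← mk_mul_mk (isInvertible_tensorPow hM (m + 1)) (isInvertible_tensorPow hLm (r + 1)), mk_tensorPow hM,
          mk_tensorPow hLm, mk_tensorPow hL.1, ← pow_mul, mul_comm (m + 1) (r + 1), pow_mul, ← mul_pow, h1, one_pow]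
      obtain ⟨e'⟩ := (mk_eq_one_iff _).mp h3
      have h4 := genLocus_eq_top f e' τ (x := x) (by rw [h2]; exact ⟨hx, hxσ⟩)
      rw [h2, inf_eq_top_iff] at h4
      exact hnaff _ hσ h4.2

/-- Restriction to smaller nonempty opens is injective on an integral scheme. -/
theorem ores_injective [IsIntegral X] {U V : X.Opens} (h : V ≤ U) (hV : (V : Set X).Nonempty) :
    Function.Injective (ores h) := by
  have : Nonempty V := hV.to_subtype
  exact map_injective_of_isIntegral X (homOfLE h)

theorem inter_nonempty [IsIntegral X] {U V : X.Opens} (hU : (U : Set X).Nonempty) (hV : (V : Set X).Nonempty) :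
    ((U ⊓ V : X.Opens) : Set X).Nonempty :=
  nonempty_preirreducible_inter U.isOpen V.isOpen hU hV

/-- Sections of an invertible module are determined by their restriction to a nonempty open. -/
theorem res_injective [IsIntegral X] {L : X.Modules} (hL : PicF.IsInvertible L) (V : X.Opens)
    (hV : (V : Set X).Nonempty) (W : X.Opens) :
    Function.Injective (res L (inf_le_left : W ⊓ V ≤ W)) := by
  intro m m' hmm
  have hex : ∀ x : W, ∃ (U : X.Opens) (e : Γ(L, U)), x.1 ∈ U ∧ IsGen e ∧ U ≤ W := by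
    intro x
    obtain ⟨U, e, hx, he⟩ := (isInvertible_iff L).mp hL x.1
    exact ⟨U ⊓ W, res L inf_le_left e, ⟨hx, x.2⟩, he.res inf_le_left, inf_le_right⟩
  choose U e hxU he hUW using hex
  refine res_ext L U hUW (fun x hx => TopologicalSpace.Opens.mem_iSup.mpr ⟨⟨x, hx⟩, hxU _⟩) fun i => ?_
  obtain ⟨a, ha⟩ := (he i).exists_eq (res L (hUW i) m)
  obtain ⟨b, hb⟩ := (he i).exists_eq (res L (hUW i) m')
  rw [ha, hb]
  congr 1
  have hne : ((U i ⊓ V : X.Opens) : Set X).Nonempty := inter_nonempty ⟨i.1, hxU i⟩ hV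
  apply ores_injective (inf_le_left : U i ⊓ V ≤ U i) hne
  apply ((he i).res (inf_le_left : U i ⊓ V ≤ U i)).ext
  rw [← res_smul, ← res_smul, ← ha, ← hb, res_res, res_res]
  have h1 := congrArg (res L (inf_le_inf_right V (hUW i) : U i ⊓ V ≤ W ⊓ V)) hmm
  rwa [res_res, res_res] at h1

/-- Extraction of roots of functions on a normal scheme. -/
theorem exists_root [IsIntegral X] (hX : ∀ x : X, IsIntegrallyClosed (X.presheaf.stalk x)) {U V : X.Opens}
    (hU : IsAffineOpen U) (hUV : V ≤ U) (hV : (V : Set X).Nonempty) {n : ℕ} (hn : 0 < n) (a : Γ(X, U)) (h : Γ(X, V))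
    (hah : h ^ n = ores hUV a) : ∃ b : Γ(X, U), ores hUV b = h := by
  have h1 : Nonempty V := hV.to_subtype
  have h2 : Nonempty U := (hV.mono hUV).to_subtype
  have h3 : IsIntegrallyClosed Γ(X, U) :=
    Groth.Agent.Ega3B.NormalBirational.isIntegrallyClosed_section hX U hU
  have h4 : IsFractionRing Γ(X, U) X.functionField := functionField_isFractionRing_of_isAffineOpen X U hU
  have key : ∀ c : Γ(X, U), X.germToFunctionField V (ores hUV c) = X.germToFunctionField U c := fun c =>
    TopCat.Presheaf.germ_res_apply X.presheaf (homOfLE hUV) _ _ c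
  obtain ⟨b, hb⟩ := IsIntegrallyClosed.exists_algebraMap_eq_of_isIntegral_pow (R := Γ(X, U))
    (K := X.functionField) (x := X.germToFunctionField V h) hn (by
      rw [← map_pow, hah, key]
      exact isIntegral_algebraMap (R := Γ(X, U)) (A := X.functionField) (x := a))
  refine ⟨b, X.germToFunctionField_injective V ?_⟩
  rw [key]
  exact hb

/-- Extraction of roots of sections of invertible modules on a normal scheme. -/
theorem exists_section_root [IsIntegral X] (hX : ∀ x : X, IsIntegrallyClosed (X.presheaf.stalk x))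
    {L : X.Modules} (hL : PicF.IsInvertible L) (n : ℕ) (t : Coh.structureModule X ⟶ CohB1.tensorPow L (n + 1))
    (V : X.Opens) (hV : (V : Set X).Nonempty) (ht : CohB1.genLocus _ t = V) (e : Γ(L, V))
    (he : pow e (n + 1) = sec t V) :
    ∃ s : Coh.structureModule X ⟶ L, CohB1.genLocus L s = V := by
  choose U g hUaff hxU hUt hg using fun x : X => exists_affine_gen hL (U := ⊤) (x := x) trivial
  have hne : ∀ x, ((U x ⊓ V : X.Opens) : Set X).Nonempty := fun x => inter_nonempty ⟨x, hxU x⟩ hV
  have hb : ∀ x, ∃ b : Γ(X, U x), res L (inf_le_left : U x ⊓ V ≤ U x) (b • g x) =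
      res L (inf_le_right : U x ⊓ V ≤ V) e := by
    intro x
    obtain ⟨a, ha⟩ := ((hg x).pow (n + 1)).exists_eq (sec t (U x))
    obtain ⟨h, hh⟩ := ((hg x).res (inf_le_left : U x ⊓ V ≤ U x)).exists_eq
      (res L (inf_le_right : U x ⊓ V ≤ V) e)
    have h1 : h ^ (n + 1) = ores (inf_le_left : U x ⊓ V ≤ U x) a := by
      apply (((hg x).res (inf_le_left : U x ⊓ V ≤ U x)).pow (n + 1)).ext
      rw [← smul_pow, ← hh, ← res_pow, he, res_sec, ← res_pow, ← res_smul, ← ha, res_sec]
    obtain ⟨b, hb⟩ := exists_root hX (hUaff x) inf_le_left (hne x) (Nat.succ_pos n) a h h1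
    exact ⟨b, by rw [res_smul, hb, ← hh]⟩
  choose b hb using hb
  obtain ⟨m, hm⟩ := res_glue L U (fun x => le_top) (V := ⊤)
    (fun x _ => TopologicalSpace.Opens.mem_iSup.mpr ⟨x, hxU x⟩) (fun x => b x • g x) (by
      intro i j
      apply res_injective hL V hV
      rw [res_res, res_res]
      have h1 := congrArg (res L (inf_le_inf_right V inf_le_left : (U i ⊓ U j) ⊓ V ≤ U i ⊓ V)) (hb i)
      have h2 := congrArg (res L (inf_le_inf_right V inf_le_right : (U i ⊓ U j) ⊓ V ≤ U j ⊓ V)) (hb j)
      rw [res_res, res_res] at h1 h2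
      rw [h1, h2])
  have hmV : res L (le_top : V ≤ ⊤) m = e := by
    refine res_ext L (fun x => U x ⊓ V) (fun x => inf_le_right)
      (fun x hx => TopologicalSpace.Opens.mem_iSup.mpr ⟨x, hxU x, hx⟩) fun i => ?_
    rw [res_res, ← hb i, ← hm i, res_res]
  refine ⟨homOf m, ?_⟩
  have h1 : powHom (homOf m) (n + 1) = t := by
    apply hom_ext_sec
    apply res_injective (isInvertible_tensorPow hL (n + 1)) V hV
    rw [sec_powHom, res_pow, res_sec, res_sec, sec_homOf]
    have h2 := congrArg (res _ (inf_le_right : ⊤ ⊓ V ≤ V)) he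
    rw [res_pow, res_sec, ← hmV, res_res] at h2
    exact h2
  rw [← genLocus_powHom hL (homOf m) n, h1, ht]

/-- The section with nonvanishing locus `V`. -/
theorem exists_section {k : Type u} [Field k] [IsAlgClosed k] (f : X ⟶ Spec (CommRingCat.of k)) [IsIntegral X]
    (hX : ∀ x : X, IsIntegrallyClosed (X.presheaf.stalk x))
    {L : X.Modules} (hL : PicF.IsInvertible L) (n : ℕ) (t : Coh.structureModule X ⟶ CohB1.tensorPow L (n + 1))
    (V : X.Opens) (hV : (V : Set X).Nonempty) (ht : CohB1.genLocus _ t = V)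
    (hunit : ∀ u : Γ(X, V), IsUnit u → ∃ (c : k), u = (f.appLE ⊤ V le_top) ((Scheme.ΓSpecIso (CommRingCat.of k)).inv c))
    {e : Γ(L, V)} (he : IsGen e) :
    ∃ s : Coh.structureModule X ⟶ L, CohB1.genLocus L s = V := by
  have h1 : IsGen (sec t V) := by
    rw [← ht]
    exact isGen_sec_genLocus t
  obtain ⟨u, hu, hut⟩ := (he.pow (n + 1)).exists_unit h1
  obtain ⟨c, hc⟩ := hunit u hu
  obtain ⟨b, hb⟩ := IsAlgClosed.exists_pow_nat_eq c (Nat.succ_pos n)
  let β : Γ(X, V) := (f.appLE ⊤ V le_top) ((Scheme.ΓSpecIso (CommRingCat.of k)).inv b)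
  refine exists_section_root hX hL n t V hV ht (β • e) ?_
  rw [smul_pow, hut, hc, ← hb, map_pow, map_pow]

end K5.SecExt
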