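import Groth.Prelude.Def_AGF
import Groth.Prelude.Def_Red2
import Groth.Agent.AGF.K492.Act
import Groth.Agent.S6277
import Mathlib.AlgebraicGeometry.AlgClosed.Basic

/-!
# Finite classes invariant under a group: the stabilizer argument
-/

set_option autoImplicit false
universe u
open CategoryTheory CategoryTheory.Limits MonoidalCategory CartesianMonoidalCategory MonObj GrpObj AlgebraicGeometry
open TopologicalSpace

namespace K5.Stab

open K492.Act

section closed

/-- A closed endomorphism-immersion of a Noetherian affine scheme is an isomorphism. -/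
theorem isIso_of_isClosedImmersion_endo {Z : Scheme.{u}} [IsAffine Z] [IsLocallyNoetherian Z] (c : Z ⟶ Z)
    [IsClosedImmersion c] : IsIso c := by
  have hN : IsNoetherianRing Γ(Z, ⊤) := IsLocallyNoetherian.component_noetherian ⟨⊤, isAffineOpen_top Z⟩
  have h1 : Function.Surjective c.appTop.hom :=
    (IsClosedImmersion.isAffine_surjective_of_isAffine c).2
  have h2 := Groth.Agent.S6277.result c.appTop.hom h1
  have h3 : IsIso c.appTop := (ConcreteCategory.isIso_iff_bijective _).mpr h2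
  have h4 : MorphismProperty.isomorphisms Scheme c :=
    (HasAffineProperty.iff_of_isAffine (P := MorphismProperty.isomorphisms Scheme)).mpr ⟨inferInstance, h3⟩
  exact h4

end closed

variable {k : Type u} [Field k] {G P Y : Over (Spec (CommRingCat.of k))} [GrpObj G] [GrpObj P]

/-- The point of the underlying space of a rational point. -/
noncomputable abbrev pt {X : Over (Spec (CommRingCat.of k))} (x : 𝟙_ (Over (Spec (CommRingCat.of k))) ⟶ X) : X.left :=
  x.left (IsLocalRing.closedPoint k)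

theorem isClosed_pt [IsAlgClosed k] {X : Over (Spec (CommRingCat.of k))} [LocallyOfFiniteType X.hom]
    (x : 𝟙_ (Over (Spec (CommRingCat.of k))) ⟶ X) : IsClosed ({pt x} : Set X.left) :=
  (pointEquivClosedPoint X.hom ⟨x.left, Over.w _⟩).2

theorem pt_ext [IsAlgClosed k] {X : Over (Spec (CommRingCat.of k))} [LocallyOfFiniteType X.hom]
    (x y : 𝟙_ (Over (Spec (CommRingCat.of k))) ⟶ X) (h : pt x = pt y) : x = y := by
  ext1
  exact ext_of_apply_closedPoint_eq X.hom (Over.w x) (Over.w y) h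

theorem exists_pt_eq [IsAlgClosed k] (X : Over (Spec (CommRingCat.of k)))
    [LocallyOfFiniteType X.hom] (x : X.left) (hx : IsClosed ({x} : Set X.left)) :
    ∃ a : 𝟙_ (Over (Spec (CommRingCat.of k))) ⟶ X, pt a = x :=
  ⟨Over.homMk (pointOfClosedPoint X.hom x hx) (pointOfClosedPoint_comp X.hom x hx),
    pointOfClosedPoint_apply X.hom x hx _⟩

theorem pt_comp {X Z : Over (Spec (CommRingCat.of k))} (x : 𝟙_ (Over (Spec (CommRingCat.of k))) ⟶ X) (f : X ⟶ Z) :
    pt (x ≫ f) = f.left (pt x) := by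
  change (x ≫ f).left _ = _
  rw [Over.comp_left, Scheme.Hom.comp_apply]

/-- The automorphism of `Y` defined by a rational point of `G`. -/
noncomputable def tau (a : AlgGrp.Action G Y) (g : 𝟙_ (Over (Spec (CommRingCat.of k))) ⟶ G) : Y ⟶ Y :=
  lift (toUnit Y ≫ g) (𝟙 Y) ≫ a.act

theorem comp_tau (a : AlgGrp.Action G Y) (g : 𝟙_ (Over (Spec (CommRingCat.of k))) ⟶ G)
    {T : Over (Spec (CommRingCat.of k))} (x : T ⟶ Y) :
    x ≫ tau a g = lift (toUnit T ≫ g) x ≫ a.act := by
  rw [tau, comp_lift_assoc, Category.comp_id, ← Category.assoc, comp_toUnit]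

theorem tau_tau (a : AlgGrp.Action G Y) (g h : 𝟙_ (Over (Spec (CommRingCat.of k))) ⟶ G) :
    tau a h ≫ tau a g = tau a (g * h) := by
  rw [comp_tau, tau, tau, comp_mul, lift_mul_act]

theorem tau_one (a : AlgGrp.Action G Y) : tau a (1 : 𝟙_ (Over (Spec (CommRingCat.of k))) ⟶ G) = 𝟙 Y := by
  rw [tau, comp_one, lift_one_act]

instance (a : AlgGrp.Action G Y) (g : 𝟙_ (Over (Spec (CommRingCat.of k))) ⟶ G) : IsIso (tau a g) :=
  ⟨tau a g⁻¹, by rw [tau_tau, inv_mul_cancel, tau_one], by rw [tau_tau, mul_inv_cancel, tau_one]⟩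

theorem pt_tau (a : AlgGrp.Action G Y) (g : 𝟙_ (Over (Spec (CommRingCat.of k))) ⟶ G)
    (y : 𝟙_ (Over (Spec (CommRingCat.of k))) ⟶ Y) : (tau a g).left (pt y) = pt (lift g y ≫ a.act) := by
  rw [← pt_comp, comp_tau]
  congr 3

omit [GrpObj G] in
theorem toUnit_unit (g : 𝟙_ (Over (Spec (CommRingCat.of k))) ⟶ G) : toUnit (𝟙_ _) ≫ g = g := by
  rw [toUnit_unique (toUnit (𝟙_ _)) (𝟙 _), Category.id_comp]

/-- A morphism from a connected reduced group with finitely many closed points in its image is constant. -/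
theorem eq_const [IsAlgClosed k] {Z : Over (Spec (CommRingCat.of k))} [LocallyOfFiniteType Z.hom]
    [LocallyOfFiniteType Y.hom] [IsSeparated Y.hom] [ConnectedSpace Z.left] [IsReduced Z.left] (ρ : Z ⟶ Y)
    (C : Set Y.left) (hC : C.Finite) (hCc : ∀ c ∈ C, IsClosed ({c} : Set Y.left))
    (h : ∀ z : 𝟙_ (Over (Spec (CommRingCat.of k))) ⟶ Z, pt (z ≫ ρ) ∈ C)
    (z₀ : 𝟙_ (Over (Spec (CommRingCat.of k))) ⟶ Z) : ρ = toUnit Z ≫ z₀ ≫ ρ := by
  have hJ : JacobsonSpace Z.left := LocallyOfFiniteType.jacobsonSpace Z.hom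
  have hcl : ∀ D : Set Y.left, D ⊆ C → IsClosed (ρ.left ⁻¹' D) := by
    intro D hD
    have h1 : IsClosed D := by
      rw [← Set.biUnion_of_singleton D]
      exact (hC.subset hD).isClosed_biUnion fun c hc => hCc c (hD hc)
    exact h1.preimage ρ.left.continuous
  have huniv : ρ.left ⁻¹' C = Set.univ := by
    have h1 : closure ((ρ.left ⁻¹' C) ∩ closedPoints Z.left) = ρ.left ⁻¹' C :=
      JacobsonSpace.closure_inter_closedPoints (hcl C subset_rfl)
    have h2 : closure (closedPoints Z.left) = Set.univ := by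
      have := JacobsonSpace.closure_inter_closedPoints (X := Z.left) isClosed_univ
      rwa [Set.univ_inter] at this
    have h3 : (ρ.left ⁻¹' C) ∩ closedPoints Z.left = closedPoints Z.left := by
      rw [Set.inter_eq_right]
      intro z hz
      obtain ⟨w, rfl⟩ := exists_pt_eq Z z hz
      have := h w
      rwa [pt_comp] at this
    rw [← h1, h3, h2]
  have hF : ρ.left ⁻¹' {pt (z₀ ≫ ρ)} = Set.univ := by
    have h1 : IsClosed (ρ.left ⁻¹' {pt (z₀ ≫ ρ)}) := hcl _ (by
      rw [Set.singleton_subset_iff]; exact h z₀)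
    have h2 : IsClosed (ρ.left ⁻¹' (C \ {pt (z₀ ≫ ρ)})) := hcl _ Set.sdiff_subset
    have h3 : IsOpen (ρ.left ⁻¹' {pt (z₀ ≫ ρ)}) := by
      have h4 : ρ.left ⁻¹' {pt (z₀ ≫ ρ)} = (ρ.left ⁻¹' (C \ {pt (z₀ ≫ ρ)}))ᶜ := by
        ext z
        have hz : ρ.left z ∈ C := by
          have : z ∈ ρ.left ⁻¹' C := by rw [huniv]; trivial
          exact this
        simp only [Set.mem_preimage, Set.mem_singleton_iff, Set.mem_compl_iff, Set.mem_sdiff, not_and, not_not]
        exact ⟨fun h5 _ => h5, fun h5 => h5 hz⟩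
      rw [h4]
      exact h2.isOpen_compl
    exact IsClopen.eq_univ ⟨h1, h3⟩ ⟨pt z₀, by rw [Set.mem_preimage, pt_comp]; rfl⟩
  ext1
  have : LocallyOfFiniteType (ρ.left ≫ Y.hom) := by rw [Over.w]; infer_instance
  refine ext_of_apply_eq Y.hom Set.univ isClosed_univ.isLocallyClosed dense_univ (fun x _ hx => ?_) ?_
  · obtain ⟨w, rfl⟩ := exists_pt_eq Z x hx
    have h1 : ρ.left (pt w) = pt (z₀ ≫ ρ) := by
      have : pt w ∈ ρ.left ⁻¹' {pt (z₀ ≫ ρ)} := by rw [hF]; trivial
      exact this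
    rw [h1, ← pt_comp w (toUnit Z ≫ z₀ ≫ ρ), ← Category.assoc, comp_toUnit,
      toUnit_unique (toUnit (𝟙_ _)) (𝟙 _), Category.id_comp]
  · rw [Over.w, Over.w]

/-- **The stabilizer argument.**  Let `G` act on `Y`, transitively on rational points, and let `R` be a relation on the
points of `Y` invariant under `G(k)`, such that only finitely many closed points are related to `o`.  If the stabilizer of
`o` is connected, reduced and equal to its normalizer, then only `o` is related to `o`. -/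
theorem eq_of_rel [IsAlgClosed k] [LocallyOfFiniteType Y.hom] [IsSeparated Y.hom]
    (a : AlgGrp.Action G Y) (o : 𝟙_ (Over (Spec (CommRingCat.of k))) ⟶ Y) (iP : P ⟶ G)
    (hP : IsPullback iP (toUnit P) (a.orbitMap o) o) (hcl : IsClosedImmersion iP.left) (hN : Red.IsNormalizerOf iP iP)
    [IsAffine P.left] [LocallyOfFiniteType P.hom] [ConnectedSpace P.left] [IsReduced P.left]
    (htrans : ∀ y : 𝟙_ (Over (Spec (CommRingCat.of k))) ⟶ Y,
      ∃ g : 𝟙_ (Over (Spec (CommRingCat.of k))) ⟶ G, lift g o ≫ a.act = y)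
    (R : Y.left → Y.left → Prop)
    (hR : ∀ (g : 𝟙_ (Over (Spec (CommRingCat.of k))) ⟶ G) (x y : Y.left), R x y →
      R ((tau a g).left x) ((tau a g).left y))
    (hfin : {y : Y.left | IsClosed ({y} : Set Y.left) ∧ R (pt o) y}.Finite)
    (y : 𝟙_ (Over (Spec (CommRingCat.of k))) ⟶ Y) (hy : R (pt o) (pt y)) : y = o := by
  have hmon : IsMonHom iP := hN.1
  -- `P` fixes `y`
  have h1 : iP ≫ a.orbitMap y = toUnit P ≫ y := by
    have h2 := eq_const (iP ≫ a.orbitMap y) {y : Y.left | IsClosed ({y} : Set Y.left) ∧ R (pt o) y} hfin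
      (fun c hc => hc.1) (fun p => by
        refine ⟨isClosed_pt _, ?_⟩
        have h3 := hR (p ≫ iP) _ _ hy
        rw [pt_tau, pt_tau] at h3
        have h4 : lift (p ≫ iP) o ≫ a.act = o := by
          have h5 : (p ≫ iP) ≫ a.orbitMap o = toUnit _ ≫ o := by
            rw [Category.assoc, hP.w, ← Category.assoc, comp_toUnit]
          rwa [comp_orbitMap, toUnit_unit] at h5
        rw [h4] at h3
        have h5 : p ≫ iP ≫ a.orbitMap y = lift (p ≫ iP) y ≫ a.act := by
          rw [← Category.assoc, comp_orbitMap, toUnit_unit]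
        rw [h5]
        exact h3) η[P]
    rw [h2]
    congr 1
    rw [← Category.assoc, IsMonHom.one_hom]
    have h6 := one_comp_orbitMap a y (T := 𝟙_ _)
    rw [toUnit_unit] at h6
    exact h6
  obtain ⟨g, hg⟩ := htrans y
  have hg' : ∀ {T : Over (Spec (CommRingCat.of k))} (x : T ⟶ G),
      lift x (toUnit T ≫ y) ≫ a.act = (x * (toUnit T ≫ g)) ≫ a.orbitMap o := by
    intro T x
    rw [mul_comp_orbitMap, Category.assoc, comp_orbitMap a o g, toUnit_unit, hg]
  -- conjugation by `g⁻¹` preserves `P`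
  have hconj : ∀ {T : Over (Spec (CommRingCat.of k))} (p : T ⟶ P), ∃ p' : T ⟶ P,
      (toUnit T ≫ g)⁻¹ * (p ≫ iP) * (toUnit T ≫ g) = p' ≫ iP := by
    intro T p
    have h7 : ((toUnit T ≫ g)⁻¹ * (p ≫ iP) * (toUnit T ≫ g)) ≫ a.orbitMap o = toUnit T ≫ o := by
      rw [_root_.mul_assoc, mul_comp_orbitMap, ← hg' (p ≫ iP), ← comp_orbitMap, Category.assoc, h1, ← Category.assoc,
        comp_toUnit, hg' (toUnit T ≫ g)⁻¹, inv_mul_cancel, one_comp_orbitMap]
    exact ⟨hP.lift _ _ h7, (hP.lift_fst _ _ h7).symm⟩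
  obtain ⟨c, hc⟩ := hconj (𝟙 P)
  rw [Category.id_comp] at hc
  let κ : G ⟶ G := (toUnit G ≫ g)⁻¹ * 𝟙 G * (toUnit G ≫ g)
  let κ' : G ⟶ G := (toUnit G ≫ g) * 𝟙 G * (toUnit G ≫ g)⁻¹
  have hκ : ∀ {T : Over (Spec (CommRingCat.of k))} (x : T ⟶ G), x ≫ κ = (toUnit T ≫ g)⁻¹ * x * (toUnit T ≫ g) := by
    intro T x
    simp only [κ, comp_mul, GrpObj.comp_inv, Category.comp_id, ← Category.assoc, comp_toUnit]
  have hκ' : ∀ {T : Over (Spec (CommRingCat.of k))} (x : T ⟶ G), x ≫ κ' = (toUnit T ≫ g) * x * (toUnit T ≫ g)⁻¹ := by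
    intro T x
    simp only [κ', comp_mul, GrpObj.comp_inv, Category.comp_id, ← Category.assoc, comp_toUnit]
  have hκi : IsIso κ := ⟨κ', by rw [hκ']; simp only [κ]; group, by rw [hκ]; simp only [κ']; group⟩
  have hcκ : c ≫ iP = iP ≫ κ := by rw [← hc, hκ]
  have hci : IsIso c := by
    have h8 : IsIso c.left := by
      have hκl : IsIso κ.left := inferInstanceAs (IsIso ((Over.forget _).map κ))
      have h9 : IsClosedImmersion (c.left ≫ iP.left) := by
        rw [← Over.comp_left, hcκ, Over.comp_left]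
        infer_instance
      have h10 : IsClosedImmersion c.left := IsClosedImmersion.of_comp_isClosedImmersion c.left iP.left
      have h11 : IsLocallyNoetherian P.left := LocallyOfFiniteType.isLocallyNoetherian P.hom
      exact isIso_of_isClosedImmersion_endo c.left
    exact (Over.isoMk (asIso c.left) (Over.w c)).isIso_hom
  have hgP : ∃ z : 𝟙_ (Over (Spec (CommRingCat.of k))) ⟶ P, z ≫ iP = g := by
    rw [hN.2.2]
    intro X' x h
    have hx : x ≫ g = toUnit X' ≫ g := by rw [toUnit_unique x (toUnit X')]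
    rw [hx]
    refine ⟨⟨h ≫ inv c, ?_⟩, hconj h⟩
    have h12 : (h ≫ inv c) ≫ c ≫ iP = h ≫ iP := by
      rw [Category.assoc, IsIso.inv_hom_id_assoc]
    rw [hcκ, ← Category.assoc, hκ] at h12
    rw [← h12]
    group
  obtain ⟨z, hz⟩ := hgP
  rw [← hg, ← hz]
  have h13 : (z ≫ iP) ≫ a.orbitMap o = toUnit _ ≫ o := by
    rw [Category.assoc, hP.w, ← Category.assoc, comp_toUnit]
  rwa [comp_orbitMap, toUnit_unit] at h13

end K5.Stab
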