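import Groth.Agent.AlgGrp.K5.VACrit
import Mathlib.RingTheory.Unramified.LocalRing
import Mathlib.RingTheory.Unramified.Locus
import Mathlib.NumberTheory.RamificationInertia.Unramified
import Mathlib.RingTheory.Jacobson.Ring

/-!
# A finite extension of domains in characteristic zero is unramified at some closed point
-/

set_option autoImplicit false
universe u

namespace K5.TanAlg

open Algebra

/-- A finite injective extension of domains of characteristic zero is unramified at some maximal ideal. -/
theorem exists_unramified {k A : Type u} [Field k] [CharZero k] [CommRing A] [IsDomain A]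
    [Algebra k A] [Algebra.FiniteType k A] (A' : Subring A)
    [Module.Finite A' A] : ∃ m : PrimeSpectrum A, m.asIdeal.IsMaximal ∧ Algebra.IsUnramifiedAt A' m.asIdeal := by
  have hft : Algebra.FiniteType A' A := inferInstance
  have hJ : IsJacobsonRing A := isJacobsonRing_of_finiteType (A := k) (B := A)
  have hbot : (⊥ : PrimeSpectrum A) ∈ unramifiedLocus A' A := by
    have hinj : Function.Injective (algebraMap A' A) := Subtype.val_injective
    have hint : Algebra.IsIntegral A' A := inferInstance
    have hfs : FaithfulSMul A' A := (faithfulSMul_iff_algebraMap_injective A' A).mpr hinj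
    have hcz : CharZero A := charZero_of_injective_algebraMap (FaithfulSMul.algebraMap_injective k A)
    have hcz' : CharZero A' := by
      constructor
      intro a b hab
      have h1 : ((a : A') : A) = ((b : A') : A) := congrArg Subtype.val hab
      push_cast at h1
      exact_mod_cast h1
    exact isUnramifiedAt_bot
  obtain ⟨_, ⟨_, ⟨g, rfl⟩, rfl⟩, hg, hsub⟩ :=
    PrimeSpectrum.isBasis_basic_opens.exists_subset_of_mem_open hbot isOpen_unramifiedLocus
  have hg0 : g ≠ 0 := by
    rintro rfl
    exact hg (by exact zero_mem _)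
  have hjac : (⊥ : Ideal A).jacobson = ⊥ := by
    have h1 := hJ.out (I := (⊥ : Ideal A)) (by
      rw [Ideal.isRadical_bot_iff]
      infer_instance)
    exact h1
  have h2 : g ∉ (⊥ : Ideal A).jacobson := by
    rw [hjac]
    exact hg0
  rw [Ideal.jacobson, Ideal.mem_sInf] at h2
  push Not at h2
  obtain ⟨m, hm, hgm⟩ := h2
  exact ⟨⟨m, hm.2.isPrime⟩, hm.2, hsub hgm⟩

/-- If `A'` is generated by the constants and by a set `R` stable under subtraction of constants, then an element of
`A'` in a maximal ideal `m` of `A` is in the ideal generated by `R ∩ m`. -/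
theorem mem_span {k A : Type u} [Field k] [IsAlgClosed k] [CommRing A]
    [Algebra k A] [Algebra.FiniteType k A] (R : Set A) (hR : ∀ a ∈ R, ∀ c : k, a - algebraMap k A c ∈ R)
    (A' : Subring A) (hA' : A' = Subring.closure (R ∪ Set.range (algebraMap k A))) (m : Ideal A) [hm : m.IsMaximal]
    (b : A) (hb : b ∈ A') (hbm : b ∈ m) : b ∈ Ideal.span {b | b ∈ m ∧ b ∈ R} := by
  set I : Ideal A := Ideal.span {b | b ∈ m ∧ b ∈ R} with hI
  have hIm : I ≤ m := Ideal.span_le.mpr fun b hb => hb.1
  have key : ∀ b ∈ A', ∃ c : k, b - algebraMap k A c ∈ I := by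
    intro b hb
    rw [hA'] at hb
    induction hb using Subring.closure_induction with
    | mem x hx =>
      rcases hx with hx | ⟨c, rfl⟩
      · obtain ⟨c, hc⟩ := K5.VACrit.exists_sub_mem (k := k) m x
        exact ⟨c, Ideal.subset_span ⟨hc, hR x hx c⟩⟩
      · exact ⟨c, by rw [sub_self]; exact zero_mem _⟩
    | zero => exact ⟨0, by rw [map_zero, sub_self]; exact zero_mem _⟩
    | one => exact ⟨1, by rw [map_one, sub_self]; exact zero_mem _⟩
    | add x y _ _ hx hy =>
      obtain ⟨c, hc⟩ := hx
      obtain ⟨d, hd⟩ := hy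
      refine ⟨c + d, ?_⟩
      have : x + y - algebraMap k A (c + d) = (x - algebraMap k A c) + (y - algebraMap k A d) := by
        rw [map_add]; ring
      rw [this]
      exact add_mem hc hd
    | neg x _ hx =>
      obtain ⟨c, hc⟩ := hx
      refine ⟨-c, ?_⟩
      have : -x - algebraMap k A (-c) = -(x - algebraMap k A c) := by
        rw [map_neg]; ring
      rw [this]
      exact neg_mem hc
    | mul x y _ _ hx hy =>
      obtain ⟨c, hc⟩ := hx
      obtain ⟨d, hd⟩ := hy
      refine ⟨c * d, ?_⟩
      have : x * y - algebraMap k A (c * d) = y * (x - algebraMap k A c) + algebraMap k A c * (y - algebraMap k A d) := by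
        rw [map_mul]; ring
      rw [this]
      exact add_mem (I.mul_mem_left _ hc) (I.mul_mem_left _ hd)
  obtain ⟨c, hc⟩ := key b hb
  have h1 : algebraMap k A c ∈ m := by
    have := m.sub_mem hbm (hIm hc)
    rwa [sub_sub_cancel] at this
  have h2 : c = 0 := by
    by_contra hne
    exact hm.ne_top ((Ideal.eq_top_iff_one m).mpr (by
      have := m.mul_mem_left (algebraMap k A c⁻¹) h1
      rwa [← map_mul, inv_mul_cancel₀ hne, map_one] at this))
  rwa [h2, map_zero, sub_zero] at hc

/-- Ratios closed under subtraction of constants: a finite extension `A' ⊆ A` generated by `R` has a maximal ideal `m`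
of `A` which is locally generated by `R ∩ m`. -/
theorem exists_maximal {k A : Type u} [Field k] [IsAlgClosed k] [CharZero k] [CommRing A] [IsDomain A]
    [Algebra k A] [Algebra.FiniteType k A] (R : Set A) (hR : ∀ a ∈ R, ∀ c : k, a - algebraMap k A c ∈ R)
    (A' : Subring A) (hA' : A' = Subring.closure (R ∪ Set.range (algebraMap k A))) [Module.Finite A' A] :
    ∃ m : Ideal A, m.IsMaximal ∧ ∀ a ∈ m, ∃ u, u ∉ m ∧ u * a ∈ Ideal.span {b | b ∈ m ∧ b ∈ R} := by
  obtain ⟨⟨m, hmp⟩, hm, hunr⟩ := exists_unramified (k := k) A'
  dsimp at hm hunr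
  refine ⟨m, hm, fun a ha => ?_⟩
  set I : Ideal A := Ideal.span {b | b ∈ m ∧ b ∈ R} with hI
  let p : Ideal A' := m.comap (algebraMap A' A)
  have hpp : p.IsPrime := inferInstance
  have hlo : m.LiesOver p := ⟨rfl⟩
  let _ := Localization.AtPrime.algebraOfLiesOver p m
  have h3 := ((Algebra.isUnramifiedAt_iff_map_eq A' p m).mp hunr).2
  have h4 : algebraMap A (Localization.AtPrime m) a ∈ I.map (algebraMap A (Localization.AtPrime m)) := by
    have h5 : algebraMap A (Localization.AtPrime m) a ∈ IsLocalRing.maximalIdeal (Localization.AtPrime m) := by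
      rwa [IsLocalization.AtPrime.to_map_mem_maximal_iff _ m]
    rw [← h3] at h5
    have h6 : p.map (algebraMap A' (Localization.AtPrime m)) ≤ I.map (algebraMap A (Localization.AtPrime m)) := by
      rw [Ideal.map_le_iff_le_comap]
      intro b hb
      rw [Ideal.mem_comap, IsScalarTower.algebraMap_apply A' A (Localization.AtPrime m)]
      exact Ideal.mem_map_of_mem _ (mem_span (k := k) R hR A' hA' m b.1 b.2 hb)
    exact h6 h5
  obtain ⟨⟨i, u⟩, hiu⟩ := (IsLocalization.mem_map_algebraMap_iff m.primeCompl _).mp h4
  rw [← map_mul, IsLocalization.eq_iff_exists m.primeCompl] at hiu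
  obtain ⟨c, hc⟩ := hiu
  refine ⟨(c : A) * u, fun h => ?_, ?_⟩
  · rcases hmp.mem_or_mem h with h7 | h7
    · exact c.2 h7
    · exact u.2 h7
  · have : ((c : A) * u) * a = c * i := by
      rw [← hc]; ring
    rw [this]
    exact I.mul_mem_left _ i.2

end K5.TanAlg
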