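import Groth.Agent.AlgGrp.K5.VACrit
import Groth.Agent.AlgGrp.K5.TanAlg

/-!
# In characteristic zero, an ample module generated by its sections separates tangent vectors at some closed point
-/

set_option autoImplicit false
universe u
open CategoryTheory CategoryTheory.Limits AlgebraicGeometry TopologicalSpace Opposite
open Groth.Agent.Fdesc.LocGen
open Groth.Agent Groth.Agent.Ega2
open Groth.Agent.VarietyB Groth.Agent.VarietyB.ProjHom Groth.Agent.VarietyB.ProjGlue

namespace K5.VACrit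

variable {X : Scheme.{u}} {k : Type u} [Field k] (f : X ⟶ Spec (CommRingCat.of k)) {L : X.Modules}

theorem sec_sub_smul (s s' : Coh.structureModule X ⟶ L) (c : Γ(X, ⊤)) (U : X.Opens) :
    sec (homOf (sec s' ⊤ - c • sec s ⊤)) U = sec s' U - ores (le_top : U ≤ ⊤) c • sec s U := by
  rw [sec_homOf, map_sub, res_smul, res_sec, res_sec]

theorem sub_mem_ratSet {s : Coh.structureModule X ⟶ L} {a : Γ(X, CohB1.genLocus L s)} (ha : a ∈ ratSet s)
    (c : Γ(X, ⊤)) : a - ores le_top c ∈ ratSet s := by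
  obtain ⟨s', hs'⟩ := ha
  exact ⟨homOf (sec s' ⊤ - c • sec s ⊤), by rw [sec_sub_smul, hs', sub_smul]⟩

theorem tanAt_of [IsAlgClosed k] [LocallyOfFiniteType f] (s : Coh.structureModule X ⟶ L)
    (haff : IsAffineOpen (CohB1.genLocus L s)) (m : Ideal Γ(X, CohB1.genLocus L s)) (hm : m.IsMaximal)
    (h : ∀ a ∈ m, ∃ u, u ∉ m ∧ u * a ∈ Ideal.span {b | b ∈ m ∧ b ∈ ratSet s}) :
    ∃ x : X, IsClosed ({x} : Set X) ∧ Tan L x := by
  have hJ : JacobsonSpace X := LocallyOfFiniteType.jacobsonSpace f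
  let W := CohB1.genLocus L s
  let x₀ : PrimeSpectrum Γ(X, W) := ⟨m, hm.isPrime⟩
  have hxW : haff.fromSpec x₀ ∈ W := by
    have : haff.fromSpec x₀ ∈ Set.range haff.fromSpec := ⟨x₀, rfl⟩
    rwa [haff.range_fromSpec] at this
  have hcl : IsClosed ({haff.fromSpec x₀} : Set X) := by
    have h1 := Topology.IsOpenEmbedding.preimage_closedPoints haff.fromSpec.isOpenEmbedding
    have h2 : x₀ ∈ haff.fromSpec ⁻¹' (closedPoints X) := by
      rw [h1]
      exact (PrimeSpectrum.isClosed_singleton_iff_isMaximal x₀).mpr hm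
    exact h2
  refine ⟨haff.fromSpec x₀, hcl, s, hxW, ?_⟩
  let _ : Algebra Γ(X, W) (X.presheaf.stalk (haff.fromSpec x₀)) :=
    TopCat.Presheaf.algebra_section_stalk X.presheaf ⟨_, hxW⟩
  have hloc : IsLocalization.AtPrime (X.presheaf.stalk (haff.fromSpec x₀)) m :=
    haff.isLocalization_stalk' x₀ hxW
  intro z hz
  obtain ⟨a, v, rfl⟩ := IsLocalization.exists_mk'_eq m.primeCompl z
  have ha : a ∈ m := by
    rwa [IsLocalization.AtPrime.mk'_mem_maximal_iff _ m] at hz
  obtain ⟨w, hw, hwa⟩ := h a ha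
  set J := Ideal.span {g | ∃ a ∈ ratSet s, haff.fromSpec x₀ ∉ X.basicOpen a ∧
    g = X.presheaf.germ (CohB1.genLocus L s) (haff.fromSpec x₀) hxW a} with hJdef
  have h1 : (Ideal.span {b | b ∈ m ∧ b ∈ ratSet s}).map
      (algebraMap Γ(X, W) (X.presheaf.stalk (haff.fromSpec x₀))) ≤ J := by
    rw [Ideal.map_span, Ideal.span_le]
    rintro _ ⟨b, ⟨hbm, hbR⟩, rfl⟩
    refine Ideal.subset_span ⟨b, hbR, ?_, rfl⟩
    intro hmem
    exact (mem_basicOpen_fromSpec haff x₀ b).mp hmem hbm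
  have h2 : algebraMap Γ(X, W) (X.presheaf.stalk (haff.fromSpec x₀)) (w * a) ∈ J :=
    h1 (Ideal.mem_map_of_mem _ hwa)
  have h3 : IsUnit (algebraMap Γ(X, W) (X.presheaf.stalk (haff.fromSpec x₀)) w) :=
    IsLocalization.map_units (X.presheaf.stalk (haff.fromSpec x₀)) (⟨w, hw⟩ : m.primeCompl)
  rw [map_mul, Ideal.unit_mul_mem_iff_mem _ h3] at h2
  have h4 : IsLocalization.mk' (X.presheaf.stalk (haff.fromSpec x₀)) a v =
      IsLocalization.mk' (X.presheaf.stalk (haff.fromSpec x₀)) 1 v *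
        algebraMap Γ(X, W) (X.presheaf.stalk (haff.fromSpec x₀)) a := by
    rw [mul_comm, ← IsLocalization.mk'_eq_mul_mk'_one]
  rw [h4]
  exact J.mul_mem_left _ h2

/-- In characteristic zero, an ample module generated by its sections separates tangent vectors at some closed point. -/
theorem exists_tan [IsAlgClosed k] [CharZero k] [IsProper f] [IsIntegral X] (hL : CohB1.IsAmple L)
    (hgg : ∀ x : X, ∃ s : Coh.structureModule X ⟶ L, x ∈ CohB1.genLocus L s) :
    ∃ x : X, IsClosed ({x} : Set X) ∧ Tan L x := by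
  classical
  have hc : CompactSpace X := hL.2.1
  obtain ⟨n, s, hcov⟩ : ∃ (n : ℕ) (s : Fin (n + 1) → (Coh.structureModule X ⟶ L)),
      ⨆ i, CohB1.genLocus L (s i) = ⊤ := by
    choose t ht using hgg
    obtain ⟨S, hS⟩ := isCompact_univ.elim_finite_subcover (fun x : X => (CohB1.genLocus L (t x) : Set X))
      (fun x => (CohB1.genLocus L (t x)).isOpen) (fun x _ => Set.mem_iUnion.2 ⟨x, ht x⟩)
    let n := Fintype.card S
    let e : Fin n ≃ S := (Fintype.equivFin S).symm
    refine ⟨n, Fin.cons 0 fun i => t (e i), ?_⟩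
    rw [eq_top_iff]
    intro x _
    obtain ⟨y, hy⟩ := Set.mem_iUnion.1 (hS (Set.mem_univ x))
    obtain ⟨hyS, hxy⟩ := Set.mem_iUnion.1 hy
    rw [TopologicalSpace.Opens.mem_iSup]
    refine ⟨(e.symm ⟨y, hyS⟩).succ, ?_⟩
    simpa using hxy
  have haff : ∀ i, IsAffineOpen (CohB1.genLocus L (s i)) := fun i =>
    K899.GenAff.isAffineOpen_genLocus f hL (s i)
  obtain ⟨x₀⟩ : Nonempty X := inferInstance
  obtain ⟨i, hi⟩ : ∃ i, x₀ ∈ CohB1.genLocus L (s i) := by
    have : x₀ ∈ ⨆ i, CohB1.genLocus L (s i) := by rw [hcov]; trivial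
    rwa [TopologicalSpace.Opens.mem_iSup] at this
  have hfin := moduleFinite f hL s hcov haff i
  let W := CohB1.genLocus L (s i)
  have hne : Nonempty W := ⟨⟨x₀, hi⟩⟩
  have hdom : IsDomain Γ(X, W) := inferInstance
  let _ : Algebra k Γ(X, W) := (CoordData.baseHom f W).toAlgebra
  have hft : Algebra.FiniteType k Γ(X, W) := by
    have h1 : (f.appLE ⊤ W le_top).hom.FiniteType :=
      LocallyOfFiniteType.finiteType_appLE f (isAffineOpen_top _) (haff i) le_top
    have h2 : (CoordData.baseHom f W).FiniteType := by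
      have h3 : CoordData.baseHom f W = (f.appLE ⊤ W le_top).hom.comp
          (Scheme.ΓSpecIso (CommRingCat.of k)).inv.hom := by
        rw [CoordData.baseHom, ← RingHom.comp_assoc]
        rfl
      rw [h3]
      refine h1.comp (RingHom.FiniteType.of_surjective _ ?_)
      exact (Scheme.ΓSpecIso (CommRingCat.of k)).symm.commRingCatIsoToRingEquiv.surjective
    exact h2
  have hrange : Set.range (algebraMap k Γ(X, W)) = Set.range (fun r : Γ(Spec (CommRingCat.of k), ⊤) =>
      ores (le_top : W ≤ f ⁻¹ᵁ ⊤) (f.app ⊤ r)) := by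
    ext a
    constructor
    · rintro ⟨c, rfl⟩
      exact ⟨(Scheme.ΓSpecIso (CommRingCat.of k)).inv c, rfl⟩
    · rintro ⟨r, rfl⟩
      obtain ⟨c, rfl⟩ := (Scheme.ΓSpecIso (CommRingCat.of k)).symm.commRingCatIsoToRingEquiv.surjective r
      exact ⟨c, rfl⟩
  obtain ⟨m, hm, hma⟩ := K5.TanAlg.exists_maximal (k := k) (A := Γ(X, W)) (ratSet (s i)) (by
      intro a ha c
      exact sub_mem_ratSet ha (f.app ⊤ ((Scheme.ΓSpecIso (CommRingCat.of k)).inv c))) (ratSub f (s i)) (by
      rw [hrange]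
      rfl)
  exact tanAt_of f (s i) (haff i) m hm hma

end K5.VACrit
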