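import Groth.Agent.Ega2.AmpleVery
import Groth.Agent.Sga5.AmpleFib
import Groth.Agent.Ega2.AmpleUnit
import Groth.Agent.Ega2.AmpleAff
import Groth.Agent.Ega3B.ProjTwist
import Groth.Agent.VarietyB.ProjSpaceProper
import Groth.Agent.CurvSt.K899.GenAff
import Mathlib.RingTheory.Jacobson.Ring
import Mathlib.RingTheory.Nakayama

/-!
# Very ampleness from separation of points and tangent vectors

`k` algebraically closed, `X` proper over `k`, `L` ample and generated by its global sections.
* `eq_top_of_maximal`: a finite extension `A' ⊆ A` of `k`-algebras such that every maximal ideal `m` of `A` is generated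
  by `m ∩ A'` is an equality.
* `moduleFinite`: the functions on `X_s` are finite over the subring generated by the ratios `s' / s`.
* `isRelVeryAmplePn`: if the global sections of `L` separate closed points (`Sep`) and tangent vectors (`Tan`), then `L`
  is very ample.
-/

set_option autoImplicit false
universe u
open CategoryTheory CategoryTheory.Limits AlgebraicGeometry TopologicalSpace Opposite
open Groth.Agent.Fdesc.LocGen
open Groth.Agent Groth.Agent.Ega2
open Groth.Agent.VarietyB Groth.Agent.VarietyB.ProjHom Groth.Agent.VarietyB.ProjGlue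

namespace K5.VACrit

section alg

variable {k A : Type u} [Field k] [IsAlgClosed k] [CommRing A] [Algebra k A] [Algebra.FiniteType k A]

theorem exists_sub_mem (m : Ideal A) [hm : m.IsMaximal] (a : A) : ∃ c : k, a - algebraMap k A c ∈ m := by
  let _ : Field (A ⧸ m) := Ideal.Quotient.field m
  have h1 : Algebra.FiniteType k (A ⧸ m) := inferInstance
  have h2 : Module.Finite k (A ⧸ m) := finite_of_finite_type_of_isJacobsonRing k (A ⧸ m)
  have h3 : Algebra.IsIntegral k (A ⧸ m) := inferInstance
  obtain ⟨c, hc⟩ := (IsAlgClosed.algebraMap_bijective_of_isIntegral (k := k) (K := A ⧸ m)).2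
    (Ideal.Quotient.mk m a)
  refine ⟨c, ?_⟩
  rw [← Ideal.Quotient.eq_zero_iff_mem, map_sub, ← hc, sub_eq_zero]
  rfl

/-- A finite extension `A' ⊆ A` such that every maximal ideal `m` of `A` is generated by `m ∩ A'` is an equality. -/
theorem eq_top_of_maximal (A' : Subring A) (hk : ∀ c : k, algebraMap k A c ∈ A') [hfin : Module.Finite A' A]
    (h : ∀ m : Ideal A, m.IsMaximal → m ≤ Ideal.span {a | a ∈ m ∧ a ∈ A'}) : A' = ⊤ := by
  classical
  have hint : Algebra.IsIntegral A' A := inferInstance
  let N : Submodule A' A := LinearMap.range (Algebra.linearMap A' A)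
  have hN : N = ⊤ := by
    by_contra hne
    have hnt : Nontrivial (A ⧸ N) := Submodule.Quotient.nontrivial_iff.mpr hne
    obtain ⟨p, hp, hpa⟩ := Ideal.exists_le_maximal (Module.annihilator A' (A ⧸ N)) (by
      intro htop
      obtain ⟨x, hx⟩ := exists_ne (0 : A ⧸ N)
      apply hx
      have h1 : (1 : A') ∈ Module.annihilator A' (A ⧸ N) := by rw [htop]; trivial
      simpa using Module.mem_annihilator.mp h1 x)
    obtain ⟨m, hm, hmp⟩ := Ideal.exists_ideal_over_maximal_of_isIntegral (S := A) p (by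
      have : RingHom.ker (algebraMap A' A) = ⊥ := by
        rw [RingHom.ker_eq_bot_iff_eq_zero]
        intro x hx
        exact Subtype.ext hx
      rw [this]; exact bot_le)
    have hle : (⊤ : Submodule A' (A ⧸ N)) ≤ p • ⊤ := by
      rintro x -
      obtain ⟨a, rfl⟩ := Submodule.Quotient.mk_surjective N x
      obtain ⟨c, hc⟩ := exists_sub_mem (k := k) m a
      have e1 : (Submodule.Quotient.mk a : A ⧸ N) = Submodule.Quotient.mk (a - algebraMap k A c) := by
        rw [Submodule.Quotient.eq]
        refine ⟨⟨algebraMap k A c, hk c⟩, ?_⟩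
        change algebraMap k A c = a - (a - algebraMap k A c)
        ring
      rw [e1]
      have h2 : a - algebraMap k A c ∈ Ideal.span {a | a ∈ m ∧ a ∈ A'} := h m hm hc
      have key : ∀ b ∈ Ideal.span {a | a ∈ m ∧ a ∈ A'}, ∀ r : A,
          (Submodule.Quotient.mk (r * b) : A ⧸ N) ∈ p • (⊤ : Submodule A' (A ⧸ N)) := by
        intro b hb
        induction hb using Submodule.span_induction with
        | mem b hb =>
          intro r
          have hb' : (⟨b, hb.2⟩ : A') ∈ p := by
            rw [← hmp]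
            exact hb.1
          have e2 : (Submodule.Quotient.mk (r * b) : A ⧸ N) =
              (⟨b, hb.2⟩ : A') • (Submodule.Quotient.mk r : A ⧸ N) := by
            rw [← Submodule.Quotient.mk_smul]
            congr 1
            rw [Subring.smul_def, smul_eq_mul, mul_comm]
          rw [e2]
          exact Submodule.smul_mem_smul hb' trivial
        | zero => intro r; rw [mul_zero]; exact Submodule.zero_mem _
        | add x y _ _ hx hy => intro r; rw [mul_add]; exact Submodule.add_mem _ (hx r) (hy r)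
        | smul t x _ hx => intro r; rw [smul_eq_mul, ← mul_assoc]; exact hx _
      have := key _ h2 1
      rwa [one_mul] at this
    obtain ⟨r, hr1, hr2⟩ := Submodule.exists_sub_one_mem_and_smul_eq_zero_of_fg_of_le_smul p
      (⊤ : Submodule A' (A ⧸ N)) Module.Finite.fg_top hle
    have h3 : r ∈ p := hpa (Module.mem_annihilator.mpr fun x => hr2 x trivial)
    exact hp.ne_top ((Ideal.eq_top_iff_one p).mpr (by
      have := p.sub_mem h3 hr1
      simpa using this))
  rw [eq_top_iff]
  intro a _
  have h4 : a ∈ N := by rw [hN]; trivial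
  obtain ⟨b, hb⟩ := h4
  rw [← hb]
  exact b.2

end alg

section geom

attribute [local instance] MvPolynomial.gradedAlgebra

variable {X : Scheme.{u}} {I : Type} {R : Type u} [CommRing R] (D : CoordData X I)

theorem range_awayLift_le {A B : Type u} [CommRing A] [CommRing B] {σ : Type*} [SetLike σ A]
    [AddSubgroupClass σ A] (𝒜 : ℕ → σ) [GradedRing 𝒜] (f : A →+* B)
    {t : A} (htd : t ∈ 𝒜 1) (h1 : f t = 1) (ht : IsUnit (f t)) :
    (awayLift 𝒜 f t ht).range ≤ f.range := by
  rintro _ ⟨z, rfl⟩
  obtain ⟨n, a, ha, rfl⟩ := HomogeneousLocalization.Away.mk_surjective 𝒜 htd z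
  have h2 := awayLift_mk 𝒜 f ht htd n a ha
  rw [h1, one_pow, mul_one] at h2
  exact ⟨a, h2.symm⟩

theorem exists_finite (hD : ∀ i k, X.basicOpen (D.f i k) = D.U i ⊓ D.U k)
    (p : X ⟶ Spec (CommRingCat.of R)) [hfin : IsFinite (D.toProjSpace p)] (k : I) (haff : IsAffineOpen (D.U k)) :
    ∃ (B : Type u) (_ : CommRing B) (g : B →+* Γ(X, D.U k)), g.Finite ∧ g.range ≤ (D.hom p k).range := by
  have hk := D.preimage_basicOpen hD p k
  let e := X.isoOfEq hk
  have : IsAffine (D.U k).toScheme := haff
  have h1 : (D.toProjSpace p ∣_ Proj.basicOpen (MvPolynomial.homogeneousSubmodule I R) (MvPolynomial.X k)) =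
    e.hom ≫ (D.U k).toScheme.toSpecΓ ≫ Spec.map (CommRingCat.ofHom
      (awayLift (MvPolynomial.homogeneousSubmodule I R) (D.homTop p k)
      (MvPolynomial.X k) (D.isUnit_homTop p k))) ≫ (Proj.basicOpenIsoSpec (MvPolynomial.homogeneousSubmodule I R) _
      (MvPolynomial.isHomogeneous_X R k : MvPolynomial.X k ∈ MvPolynomial.homogeneousSubmodule I R 1)
        Nat.one_pos).inv := by
    rw [← cancel_mono (Proj.basicOpen _ _).ι, morphismRestrict_ι]
    simp only [Category.assoc]
    have h2 := D.ι_toProjSpace p k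
    rw [CoordData.localHom, toProj, Proj.awayι] at h2
    refine Eq.trans ?_ (congrArg (fun z => e.hom ≫ z) h2)
    rw [← Category.assoc, Scheme.isoOfEq_hom_ι]
  have h2 : IsFinite (D.toProjSpace p ∣_
    Proj.basicOpen (MvPolynomial.homogeneousSubmodule I R) (MvPolynomial.X k)) := inferInstance
  rw [h1, MorphismProperty.cancel_left_of_respectsIso (P := @IsFinite),
    MorphismProperty.cancel_left_of_respectsIso (P := @IsFinite),
    MorphismProperty.cancel_right_of_respectsIso (P := @IsFinite), IsFinite.SpecMap_iff] at h2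
  refine ⟨_, inferInstance, (D.U k).topIso.hom.hom.comp (awayLift (MvPolynomial.homogeneousSubmodule I R)
    (D.homTop p k) (MvPolynomial.X k) (D.isUnit_homTop p k)), ?_, ?_⟩
  · exact RingHom.Finite.comp
      (RingHom.Finite.of_surjective _ (D.U k).topIso.commRingCatIsoToRingEquiv.surjective) h2
  · rintro _ ⟨z, rfl⟩
    obtain ⟨a, ha⟩ := range_awayLift_le (MvPolynomial.homogeneousSubmodule I R) (D.homTop p k)
      (MvPolynomial.isHomogeneous_X R k) (by
        simp only [CoordData.homTop, RingHom.comp_apply, CoordData.hom_X, CoordData.f_self, map_one])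
      (D.isUnit_homTop p k) ⟨z, rfl⟩
    refine ⟨a, ?_⟩
    rw [RingHom.comp_apply, ← ha, CoordData.homTop, RingHom.comp_apply]
    exact (congr($((D.U k).topIso.inv_hom_id).hom (D.hom p k a))).symm

end geom

section main

variable {X : Scheme.{u}} {k : Type u} [Field k] (f : X ⟶ Spec (CommRingCat.of k)) {L : X.Modules}

/-- The ratios `s' / s` of global sections of `L`, on the generating locus of `s`. -/
def ratSet (s : Coh.structureModule X ⟶ L) : Set Γ(X, CohB1.genLocus L s) :=
  {a | ∃ s' : Coh.structureModule X ⟶ L,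
    sec s' (CohB1.genLocus L s) = a • sec s (CohB1.genLocus L s)}

/-- The subring generated by the constants and the ratios `s' / s`. -/
noncomputable def ratSub (s : Coh.structureModule X ⟶ L) : Subring Γ(X, CohB1.genLocus L s) :=
  Subring.closure (ratSet s ∪ Set.range (fun r : Γ(Spec (CommRingCat.of k), ⊤) =>
    ores (le_top : CohB1.genLocus L s ≤ f ⁻¹ᵁ ⊤) (f.app ⊤ r)))

/-- The sections of `L` separate the closed points. -/
def Sep (L : X.Modules) : Prop := ∀ x y : X, IsClosed ({x} : Set X) → IsClosed ({y} : Set X) → x ≠ y →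
  ∃ s : Coh.structureModule X ⟶ L, x ∉ CohB1.genLocus L s ∧ y ∈ CohB1.genLocus L s

/-- The ratios vanishing at `x` generate the maximal ideal at `x`. -/
def TanAt (s : Coh.structureModule X ⟶ L) (x : X) (hx : x ∈ CohB1.genLocus L s) : Prop :=
  IsLocalRing.maximalIdeal (X.presheaf.stalk x) ≤
    Ideal.span {g | ∃ a ∈ ratSet s, x ∉ X.basicOpen a ∧ g = X.presheaf.germ (CohB1.genLocus L s) x hx a}

/-- The sections of `L` separate tangent vectors at `x`. -/
def Tan (L : X.Modules) (x : X) : Prop :=
  ∃ (s : Coh.structureModule X ⟶ L) (hx : x ∈ CohB1.genLocus L s), TanAt s x hx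

theorem basicOpen_of_rat {s s' : Coh.structureModule X ⟶ L} {a : Γ(X, CohB1.genLocus L s)}
    (h : sec s' (CohB1.genLocus L s) = a • sec s (CohB1.genLocus L s)) :
    X.basicOpen a = CohB1.genLocus L s ⊓ CohB1.genLocus L s' := by
  rw [inf_comm]
  exact (genLocus_inf_eq s' (isGen_sec_genLocus s) h).symm

theorem germ_ores {U V : X.Opens} (h : V ≤ U) (x : X) (hx : x ∈ V) (a : Γ(X, U)) :
    X.presheaf.germ V x hx (ores h a) = X.presheaf.germ U x (h hx) a :=
  TopCat.Presheaf.germ_res_apply X.presheaf (homOfLE h) x hx a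

theorem TanAt.change {s s₁ : Coh.structureModule X ⟶ L} {x : X} {hx : x ∈ CohB1.genLocus L s}
    (h : TanAt s x hx) (hx₁ : x ∈ CohB1.genLocus L s₁) : TanAt s₁ x hx₁ := by
  refine h.trans ?_
  rw [Ideal.span_le]
  rintro _ ⟨a, ⟨s', hs'⟩, hxa, rfl⟩
  obtain ⟨c, hc⟩ := (isGen_sec_genLocus s₁).exists_eq (sec s (CohB1.genLocus L s₁))
  obtain ⟨a₁, ha₁⟩ := (isGen_sec_genLocus s₁).exists_eq (sec s' (CohB1.genLocus L s₁))
  have hcU : x ∈ X.basicOpen c := by
    rw [basicOpen_of_rat hc]
    exact ⟨hx₁, hx⟩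
  have hu : IsUnit (X.presheaf.germ (CohB1.genLocus L s₁) x hx₁ c) := by
    rwa [Scheme.mem_basicOpen _ _ _ hx₁] at hcU
  have hxW : x ∈ CohB1.genLocus L s ⊓ CohB1.genLocus L s₁ := ⟨hx, hx₁⟩
  have h1 : ores (inf_le_right : CohB1.genLocus L s ⊓ CohB1.genLocus L s₁ ≤ _) a₁ =
      ores inf_le_left a * ores inf_le_right c := by
    apply ((isGen_sec_genLocus s₁).res
      (inf_le_right : CohB1.genLocus L s ⊓ CohB1.genLocus L s₁ ≤ _)).ext
    rw [← res_smul, ← ha₁, res_sec, mul_smul, ← res_smul, ← hc, res_sec, ← res_sec s inf_le_left,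
      ← res_smul, ← hs', res_sec]
  have h2 : X.presheaf.germ _ x hx₁ a₁ = X.presheaf.germ _ x hx a * X.presheaf.germ _ x hx₁ c := by
    rw [← germ_ores (inf_le_right : CohB1.genLocus L s ⊓ CohB1.genLocus L s₁ ≤ _) x hxW,
      ← germ_ores (inf_le_left : CohB1.genLocus L s ⊓ CohB1.genLocus L s₁ ≤ _) x hxW a,
      ← germ_ores (inf_le_right : CohB1.genLocus L s ⊓ CohB1.genLocus L s₁ ≤ _) x hxW c, h1, map_mul]
  have h3 : x ∉ X.basicOpen a₁ := by
    rw [basicOpen_of_rat ha₁]
    rintro ⟨-, h4⟩
    apply hxa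
    rw [basicOpen_of_rat hs']
    exact ⟨hx, h4⟩
  have h4 : X.presheaf.germ _ x hx₁ a₁ ∈ Ideal.span {g | ∃ a ∈ ratSet s₁, x ∉ X.basicOpen a ∧
      g = X.presheaf.germ (CohB1.genLocus L s₁) x hx₁ a} := Ideal.subset_span ⟨a₁, ⟨s', ha₁⟩, h3, rfl⟩
  obtain ⟨v, hv⟩ := hu
  have h5 : X.presheaf.germ _ x hx a = ↑v⁻¹ * X.presheaf.germ _ x hx₁ a₁ := by
    rw [h2, ← hv, mul_comm, mul_assoc, Units.mul_inv, mul_one]
  rw [SetLike.mem_coe, h5]
  exact Ideal.mul_mem_left _ _ h4

theorem mem_basicOpen_fromSpec {W : X.Opens} (hW : IsAffineOpen W) (P : PrimeSpectrum Γ(X, W)) (a : Γ(X, W)) :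
    hW.fromSpec P ∈ X.basicOpen a ↔ a ∉ P.asIdeal := by
  have h := hW.fromSpec_preimage_basicOpen a
  have h1 : P ∈ hW.fromSpec ⁻¹ᵁ X.basicOpen a ↔ P ∈ PrimeSpectrum.basicOpen a := by rw [h]; rfl
  exact h1

theorem ratSub_eq_top [IsAlgClosed k] [LocallyOfFiniteType f] (hsep : Sep L)
    (htan : ∀ x : X, IsClosed ({x} : Set X) → Tan L x) (s : Coh.structureModule X ⟶ L)
    (haff : IsAffineOpen (CohB1.genLocus L s))
    [hfin : Module.Finite (ratSub f s) Γ(X, CohB1.genLocus L s)] : ratSub f s = ⊤ := by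
  classical
  set W := CohB1.genLocus L s with hW
  let _ : Algebra k Γ(X, W) := (CoordData.baseHom f W).toAlgebra
  have hft : Algebra.FiniteType k Γ(X, W) := by
    have h1 : (f.appLE ⊤ W le_top).hom.FiniteType :=
      LocallyOfFiniteType.finiteType_appLE f (isAffineOpen_top _) haff le_top
    have h2 : (CoordData.baseHom f W).FiniteType := by
      have h3 : CoordData.baseHom f W = (f.appLE ⊤ W le_top).hom.comp
          (Scheme.ΓSpecIso (CommRingCat.of k)).inv.hom := by
        rw [CoordData.baseHom, ← RingHom.comp_assoc]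
        rfl
      rw [h3]
      refine h1.comp (RingHom.FiniteType.of_surjective _ ?_)
      exact (Scheme.ΓSpecIso (CommRingCat.of k)).symm.commRingCatIsoToRingEquiv.surjective
    exact h2
  have hJ : JacobsonSpace X := LocallyOfFiniteType.jacobsonSpace f
  refine eq_top_of_maximal (k := k) (ratSub f s) (fun c => ?_) ?_
  · exact Subring.subset_closure (Or.inr ⟨(Scheme.ΓSpecIso (CommRingCat.of k)).inv c, rfl⟩)
  · intro m hm a ha
    set I : Ideal Γ(X, W) := Ideal.span {a | a ∈ m ∧ a ∈ ratSub f s} with hI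
    let J : Ideal Γ(X, W) :=
      { carrier := {b | b * a ∈ I}
        add_mem' := fun {x y} hx hy => by
          change (x + y) * a ∈ I
          rw [add_mul]; exact I.add_mem hx hy
        zero_mem' := by
          change 0 * a ∈ I
          rw [zero_mul]; exact I.zero_mem
        smul_mem' := fun c x hx => by
          change (c * x) * a ∈ I
          rw [mul_assoc]; exact I.mul_mem_left _ hx }
    have hJtop : J = ⊤ := by
      by_contra hne
      obtain ⟨P, hP, hJP⟩ := Ideal.exists_le_maximal J hne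
      have hcl : ∀ Q : PrimeSpectrum Γ(X, W), Q.asIdeal.IsMaximal → IsClosed ({haff.fromSpec Q} : Set X) := by
        intro Q hQ
        have h1 := Topology.IsOpenEmbedding.preimage_closedPoints haff.fromSpec.isOpenEmbedding
        have h2 : Q ∈ haff.fromSpec ⁻¹' (closedPoints X) := by
          rw [h1]
          exact (PrimeSpectrum.isClosed_singleton_iff_isMaximal Q).mpr hQ
        exact h2
      let x₀ : PrimeSpectrum Γ(X, W) := ⟨m, hm.isPrime⟩
      let y₀ : PrimeSpectrum Γ(X, W) := ⟨P, hP.isPrime⟩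
      have hxW : haff.fromSpec x₀ ∈ W := by
        have : haff.fromSpec x₀ ∈ Set.range haff.fromSpec := ⟨x₀, rfl⟩
        rwa [haff.range_fromSpec] at this
      have hyW : haff.fromSpec y₀ ∈ W := by
        have : haff.fromSpec y₀ ∈ Set.range haff.fromSpec := ⟨y₀, rfl⟩
        rwa [haff.range_fromSpec] at this
      by_cases hPm : P = m
      · -- tangent vectors
        obtain ⟨s₁, hx₁, ht₁⟩ := htan (haff.fromSpec x₀) (hcl x₀ hm)
        have ht := ht₁.change (s₁ := s) hxW
        let _ : Algebra Γ(X, W) (X.presheaf.stalk (haff.fromSpec x₀)) :=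
          TopCat.Presheaf.algebra_section_stalk X.presheaf ⟨_, hxW⟩
        have hloc : IsLocalization.AtPrime (X.presheaf.stalk (haff.fromSpec x₀)) m :=
          haff.isLocalization_stalk' x₀ hxW
        have hle : IsLocalRing.maximalIdeal (X.presheaf.stalk (haff.fromSpec x₀)) ≤
            I.map (algebraMap Γ(X, W) (X.presheaf.stalk (haff.fromSpec x₀))) := by
          refine ht.trans ?_
          rw [Ideal.span_le]
          rintro _ ⟨b, hb, hxb, rfl⟩
          refine Ideal.mem_map_of_mem (algebraMap Γ(X, W) (X.presheaf.stalk (haff.fromSpec x₀)))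
            (Ideal.subset_span ⟨?_, Subring.subset_closure (Or.inl hb)⟩)
          by_contra hbm
          exact hxb ((mem_basicOpen_fromSpec haff x₀ b).mpr hbm)
        have ha' : algebraMap Γ(X, W) (X.presheaf.stalk (haff.fromSpec x₀)) a ∈
            I.map (algebraMap Γ(X, W) (X.presheaf.stalk (haff.fromSpec x₀))) := by
          apply hle
          rwa [IsLocalization.AtPrime.to_map_mem_maximal_iff _ m]
        obtain ⟨⟨i, u⟩, hiu⟩ := (IsLocalization.mem_map_algebraMap_iff m.primeCompl _).mp ha'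
        rw [← map_mul, IsLocalization.eq_iff_exists m.primeCompl] at hiu
        obtain ⟨c, hc⟩ := hiu
        have h5 : (c : Γ(X, W)) * u ∈ J := by
          change ((c : Γ(X, W)) * u) * a ∈ I
          have : ((c : Γ(X, W)) * u) * a = c * i := by
            rw [← hc]; ring
          rw [this]
          exact I.mul_mem_left _ i.2
        have h6 := hJP h5
        rw [hPm] at h6
        rcases hm.isPrime.mem_or_mem h6 with h7 | h7
        · exact c.2 h7
        · exact u.2 h7
      · -- another point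
        have hne' : haff.fromSpec x₀ ≠ haff.fromSpec y₀ := by
          intro h
          apply hPm
          have := haff.fromSpec.isOpenEmbedding.injective h
          exact (congrArg PrimeSpectrum.asIdeal this).symm
        obtain ⟨s', hs'x, hs'y⟩ := hsep _ _ (hcl x₀ hm) (hcl y₀ hP) hne'
        obtain ⟨b, hb⟩ := (isGen_sec_genLocus s).exists_eq (sec s' (CohB1.genLocus L s))
        have hbO := basicOpen_of_rat hb
        have hbm : b ∈ m := by
          by_contra hbm
          have h1 := (mem_basicOpen_fromSpec haff x₀ b).mpr hbm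
          rw [hbO] at h1
          exact hs'x h1.2
        have hbP : b ∉ P := by
          rw [← mem_basicOpen_fromSpec haff y₀ b, hbO]
          exact ⟨hyW, hs'y⟩
        apply hbP
        apply hJP
        change b * a ∈ I
        exact I.mul_mem_right _ (Ideal.subset_span ⟨hbm, Subring.subset_closure (Or.inl ⟨s', hb⟩)⟩)
    have h1 : (1 : Γ(X, W)) ∈ J := by rw [hJtop]; trivial
    have h2 : 1 * a ∈ I := h1
    rwa [one_mul] at h2

section proj

attribute [local instance] MvPolynomial.gradedAlgebra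

theorem finite_of_sections [IsProper f] (hL : CohB1.IsAmple L) {n : ℕ}
    (s : Fin (n + 1) → (Coh.structureModule X ⟶ L)) (hcov : ⨆ i, CohB1.genLocus L (s i) = ⊤) :
    IsFinite ((PnMap.coordData s hcov).toProjSpace f) := by
  let D : CoordData X (Fin (n + 1)) := PnMap.coordData s hcov
  let φ : X ⟶ CohB1.ProjSpace n k := D.toProjSpace f
  have hφ : φ ≫ CohB1.ProjSpace.toSpec n k = f := D.toProjSpace_toSpec f
  have hp : IsProper (φ ≫ CohB1.ProjSpace.toSpec n k) := by rw [hφ]; infer_instance
  have hsep : IsSeparated (CohB1.ProjSpace.toSpec n k) := inferInstance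
  have hφp : IsProper φ := IsProper.of_comp φ (CohB1.ProjSpace.toSpec n k)
  let D₀ : Fin (n + 1) → (CohB1.ProjSpace n k).Opens := fun k' =>
    Proj.basicOpen (MvPolynomial.homogeneousSubmodule (Fin (n + 1)) k) (MvPolynomial.X k')
  have hD₀ : ∀ k', φ ⁻¹ᵁ D₀ k' = CohB1.genLocus L (s k') := fun k' =>
    D.preimage_basicOpen (fun i k => PnMap.basicOpen_ratio s i k) f k'
  let r₀ : ∀ i, Fin (n + 1) → Γ(CohB1.ProjSpace n k, D₀ i) := fun i j =>
    ProjStd.ratio (Fin (n + 1)) k i j
  have hratio : ∀ i j, φ.app (D₀ i) (r₀ i j) = ores (hD₀ i).le (PnMap.ratio s i j) := by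
    intro i j
    have h1 : PnMap.ratio s i j = φ.appLE (D₀ i) (CohB1.genLocus L (s i)) (hD₀ i).ge (r₀ i j) :=
      (PnMap.appLE_ratio D f i j (hD₀ i).ge).symm
    rw [h1, VeryAmpleCrit.ores_appLE, Scheme.Hom.app_eq_appLE]
  have hcV : ⨆ i, φ ⁻¹ᵁ D₀ i = ⊤ := by
    rw [← hcov]
    exact iSup_congr fun k => hD₀ k
  obtain ⟨e⟩ := PnMap.pullback_iso_of_ratio φ (N := Twist.twistProjSpace n k 1) (M := L) D₀
    (fun i => VeryAmpleCrit.gen k i) (fun i => VeryAmpleCrit.isGen_gen i) r₀
    (fun i j => VeryAmpleCrit.gen_rel i j) s hcV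
    (fun i => (hD₀ i).le) (by
      intro i j
      rw [hratio, ← PnMap.ratio_spec_le s i j (hD₀ i).le])
  have hXs : X.IsSeparated := by
    constructor
    have : IsSeparated (f ≫ terminal.from _) := inferInstance
    rwa [terminal.comp_from] at this
  have hPs : (CohB1.ProjSpace n k).IsSeparated := by
    constructor
    have : IsSeparated (CohB1.ProjSpace.toSpec n k ≫ terminal.from _) := inferInstance
    rwa [terminal.comp_from] at this
  refine Sga5.AmpleFib.isFinite_of_isAmple_pullback
    (fun Z _ _ h => Ega2.Weight.isQuasiAffine_of_isAmple_structureModule h) φ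
    (Ega3B.ProjTwist.isInvertible_twistProjSpace n k 1) (L := Twist.twistProjSpace n k 1) ?_
  exact Ega2.Weight.isAmple_of_iso e.symm hL

theorem moduleFinite [IsProper f] (hL : CohB1.IsAmple L) {n : ℕ}
    (s : Fin (n + 1) → (Coh.structureModule X ⟶ L)) (hcov : ⨆ i, CohB1.genLocus L (s i) = ⊤)
    (haff : ∀ i, IsAffineOpen (CohB1.genLocus L (s i))) (i : Fin (n + 1)) :
    Module.Finite (ratSub f (s i)) Γ(X, CohB1.genLocus L (s i)) := by
  have h1 := finite_of_sections f hL s hcov
  obtain ⟨B, _, g, hg, hr⟩ := exists_finite (PnMap.coordData s hcov)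
    (fun i k => PnMap.basicOpen_ratio s i k) f i (haff i)
  have hle : g.range ≤ ratSub f (s i) := by
    refine hr.trans ?_
    rintro _ ⟨q, rfl⟩
    induction q using MvPolynomial.induction_on with
    | C a =>
      refine Subring.subset_closure (Or.inr ⟨(Scheme.ΓSpecIso (CommRingCat.of k)).inv a, ?_⟩)
      simp only [CoordData.hom, MvPolynomial.eval₂Hom_C]
      rfl
    | add p q hp hq => rw [map_add]; exact add_mem hp hq
    | mul_X p j hp =>
      rw [map_mul, CoordData.hom_X]
      exact mul_mem hp (Subring.subset_closure (Or.inl ⟨s j, PnMap.ratio_spec s i j⟩))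
  let g' : B →+* ratSub f (s i) := g.codRestrict (ratSub f (s i)) (fun b => hle ⟨b, rfl⟩)
  have h2 : (algebraMap (ratSub f (s i)) Γ(X, CohB1.genLocus L (s i))).Finite := by
    refine RingHom.Finite.of_comp_finite (f := g') ?_
    exact hg
  exact h2

end proj

theorem exists_finite_closure {A : Type*} [CommRing A] (S C : Set A) {t : A}
    (ht : t ∈ Subring.closure (S ∪ C)) : ∃ S' : Set A, S' ⊆ S ∧ S'.Finite ∧ t ∈ Subring.closure (S' ∪ C) := by
  induction ht using Subring.closure_induction with
  | mem x hx =>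
    rcases hx with hx | hx
    · exact ⟨{x}, by simpa using hx, Set.finite_singleton x, Subring.subset_closure (Or.inl rfl)⟩
    · exact ⟨∅, by simp, Set.finite_empty, Subring.subset_closure (Or.inr hx)⟩
  | zero => exact ⟨∅, by simp, Set.finite_empty, zero_mem _⟩
  | one => exact ⟨∅, by simp, Set.finite_empty, one_mem _⟩
  | add x y _ _ hx hy =>
    obtain ⟨S₁, h1, h2, h3⟩ := hx
    obtain ⟨S₂, h4, h5, h6⟩ := hy
    exact ⟨S₁ ∪ S₂, Set.union_subset h1 h4, h2.union h5,
      add_mem (Subring.closure_mono (Set.union_subset_union_left _ Set.subset_union_left) h3)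
        (Subring.closure_mono (Set.union_subset_union_left _ Set.subset_union_right) h6)⟩
  | neg x _ hx =>
    obtain ⟨S₁, h1, h2, h3⟩ := hx
    exact ⟨S₁, h1, h2, neg_mem h3⟩
  | mul x y _ _ hx hy =>
    obtain ⟨S₁, h1, h2, h3⟩ := hx
    obtain ⟨S₂, h4, h5, h6⟩ := hy
    exact ⟨S₁ ∪ S₂, Set.union_subset h1 h4, h2.union h5,
      mul_mem (Subring.closure_mono (Set.union_subset_union_left _ Set.subset_union_left) h3)
        (Subring.closure_mono (Set.union_subset_union_left _ Set.subset_union_right) h6)⟩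

theorem exists_finite_closure_set {A : Type*} [CommRing A] (S C T : Set A) (hT : T.Finite)
    (h : T ⊆ Subring.closure (S ∪ C)) : ∃ S' : Set A, S' ⊆ S ∧ S'.Finite ∧ T ⊆ Subring.closure (S' ∪ C) := by
  choose! F hF1 hF2 hF3 using fun t (ht : t ∈ T) => exists_finite_closure S C (h ht)
  refine ⟨⋃ t ∈ T, F t, Set.iUnion₂_subset hF1, hT.biUnion hF2, fun t ht => ?_⟩
  refine Subring.closure_mono (Set.union_subset_union_left _ ?_) (hF3 t ht)
  exact Set.subset_biUnion_of_mem ht

/-- On a proper scheme over an algebraically closed field, an ample module generated by its global sections, which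
separate closed points and tangent vectors, is very ample. -/
theorem isRelVeryAmplePn [IsAlgClosed k] [IsProper f] (hL : CohB1.IsAmple L)
    (hgg : ∀ x : X, ∃ s : Coh.structureModule X ⟶ L, x ∈ CohB1.genLocus L s) (hsep : Sep L)
    (htan : ∀ x : X, IsClosed ({x} : Set X) → Tan L x) : RelAmple.IsRelVeryAmplePn f L := by
  classical
  have hc : CompactSpace X := hL.2.1
  obtain ⟨n, s, hcov⟩ : ∃ (n : ℕ) (s : Fin (n + 1) → (Coh.structureModule X ⟶ L)),
      ⨆ i, CohB1.genLocus L (s i) = ⊤ := by
    choose t ht using hgg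
    obtain ⟨S, hS⟩ := isCompact_univ.elim_finite_subcover (fun x : X => (CohB1.genLocus L (t x) : Set X))
      (fun x => (CohB1.genLocus L (t x)).isOpen) (fun x _ => Set.mem_iUnion.2 ⟨x, ht x⟩)
    let n := Fintype.card S
    let e : Fin n ≃ S := (Fintype.equivFin S).symm
    refine ⟨n, Fin.cons 0 fun i => t (e i), ?_⟩
    rw [eq_top_iff]
    intro x _
    obtain ⟨y, hy⟩ := Set.mem_iUnion.1 (hS (Set.mem_univ x))
    obtain ⟨hyS, hxy⟩ := Set.mem_iUnion.1 hy
    rw [TopologicalSpace.Opens.mem_iSup]
    refine ⟨(e.symm ⟨y, hyS⟩).succ, ?_⟩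
    simpa using hxy
  have haff : ∀ i, IsAffineOpen (CohB1.genLocus L (s i)) := fun i =>
    K899.GenAff.isAffineOpen_genLocus f hL (s i)
  have htop : ∀ i, ratSub f (s i) = ⊤ := fun i => by
    have := moduleFinite f hL s hcov haff i
    exact ratSub_eq_top f hsep htan (s i) (haff i)
  have hft : ∀ i, ∃ S : Set Γ(X, CohB1.genLocus L (s i)), S.Finite ∧ S ⊆ ratSet (s i) ∧
      Subring.closure (S ∪ Set.range (fun r : Γ(Spec (CommRingCat.of k), ⊤) =>
        ores (le_top : CohB1.genLocus L (s i) ≤ f ⁻¹ᵁ ⊤) (f.app ⊤ r))) = ⊤ := by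
    intro i
    have h1 : (f.appLE ⊤ (CohB1.genLocus L (s i)) le_top).hom.FiniteType :=
      LocallyOfFiniteType.finiteType_appLE f (isAffineOpen_top _) (haff i) le_top
    algebraize [(f.appLE ⊤ (CohB1.genLocus L (s i)) le_top).hom]
    obtain ⟨T, hT⟩ := (inferInstance : Algebra.FiniteType Γ(Spec (CommRingCat.of k), ⊤)
      Γ(X, CohB1.genLocus L (s i))).out
    have h2 := Algebra.adjoin_eq_ring_closure (R := Γ(Spec (CommRingCat.of k), ⊤)) (T : Set Γ(X, CohB1.genLocus L (s i)))
    rw [hT] at h2
    obtain ⟨S, hS1, hS2, hS3⟩ := exists_finite_closure_set (ratSet (s i))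
      (Set.range (fun r : Γ(Spec (CommRingCat.of k), ⊤) =>
        ores (le_top : CohB1.genLocus L (s i) ≤ f ⁻¹ᵁ ⊤) (f.app ⊤ r))) (T : Set Γ(X, CohB1.genLocus L (s i)))
      T.finite_toSet (by
        intro t _
        have h3 : t ∈ ratSub f (s i) := by rw [htop i]; trivial
        exact h3)
    refine ⟨S, hS2, hS1, ?_⟩
    rw [eq_top_iff]
    have h4 : (⊤ : Subring Γ(X, CohB1.genLocus L (s i))) = Subring.closure
        (Set.range (algebraMap Γ(Spec (CommRingCat.of k), ⊤) Γ(X, CohB1.genLocus L (s i))) ∪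
          (T : Set Γ(X, CohB1.genLocus L (s i)))) := h2
    rw [h4, Subring.closure_le]
    rintro a (ha | ha)
    · exact Subring.subset_closure (Or.inr ha)
    · exact hS3 ha
  choose S hSfin hSsub hScl using hft
  have hch : ∀ (i : Fin (n + 1)) (a : S i), ∃ s' : Coh.structureModule X ⟶ L,
      sec s' (CohB1.genLocus L (s i)) = a.1 • sec (s i) (CohB1.genLocus L (s i)) := fun i a => hSsub i a.2
  choose w hw using hch
  have hfinS : ∀ i, Finite (S i) := fun i => (hSfin i).to_subtype
  let J := Fin (n + 1) ⊕ (Σ i : Fin (n + 1), S i)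
  let σ : J → (Coh.structureModule X ⟶ L) := Sum.elim s fun p => w p.1 p.2
  refine Ega2.AmpleVery.isRelVeryAmplePn_of_family f L σ (Set.range Sum.inl) ?_ ?_ ?_
  · rw [eq_top_iff, ← hcov]
    exact iSup_le fun i => le_iSup_of_le (f := fun j : (Set.range Sum.inl : Set J) => CohB1.genLocus L (σ j))
      ⟨Sum.inl i, i, rfl⟩ le_rfl
  · rintro ⟨_, i, rfl⟩
    exact haff i
  · rintro ⟨_, i, rfl⟩
    rw [eq_top_iff]
    have h5 := hScl i
    change _ ≤ Subring.closure
      ({a : Γ(X, CohB1.genLocus L (s i)) | ∃ k, sec (σ k) (CohB1.genLocus L (s i)) =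
        a • sec (s i) (CohB1.genLocus L (s i))} ∪
        Set.range (fun r : Γ(Spec (CommRingCat.of k), ⊤) =>
          ores (le_top : CohB1.genLocus L (s i) ≤ f ⁻¹ᵁ ⊤) (f.app ⊤ r)))
    refine h5.ge.trans (Subring.closure_mono (Set.union_subset_union_left _ ?_))
    intro a ha
    exact ⟨Sum.inr ⟨i, a, ha⟩, hw i ⟨a, ha⟩⟩

end main

end K5.VACrit
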